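import Cfsg.Agent.Lib.InvolChar.BSW.CaseOne

/-!
# Brauer-Suzuki-Wall: the case `q ≡ 3 mod 4`
-/

namespace CfsgLib.InvolChar.BSW

open CfsgLib.Char
open scoped commutatorElement

theorem dvd_of_free {E α : Type*} [Group E] [MulAction E α]
    (hfree : ∀ a : α, MulAction.stabilizer E a = ⊥) : Nat.card E ∣ Nat.card α := by
  have e : α ≃ MulAction.orbitRel.Quotient E α × E :=
    (MulAction.selfEquivSigmaOrbitsQuotientStabilizer E α).trans
      ((Equiv.sigmaCongrRight fun ω => (Subgroup.quotientEquivOfEq (hfree _)).trans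
        (QuotientGroup.quotientBot).toEquiv).trans (Equiv.sigmaEquivProd _ _))
  rw [Nat.card_congr e, Nat.card_prod]
  exact dvd_mul_left _ _

/-- Burnside: a prime with Sylow subgroups central in their normalizers avoids the commutator. -/
theorem not_dvd_commutator {M : Type*} [Group M] [Finite M] (p : ℕ) [Fact p.Prime]
    (P : Sylow p M)
    (hP : Subgroup.normalizer ((P : Subgroup M) : Set M) ≤
      Subgroup.centralizer ((P : Subgroup M) : Set M))
    {c : M} (hc : c ∈ commutator M) : ¬ p ∣ orderOf c := by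
  have hcomm : ∀ a b : (P : Subgroup M), a * b = b * a := fun a b => Subtype.ext
    ((Subgroup.mem_centralizer_iff.mp (hP (Subgroup.le_normalizer a.2))) b b.2).symm
  have hle : commutator M ≤ (MonoidHom.transferSylow P hP).ker := by
    rw [commutator_eq_closure, Subgroup.closure_le]
    rintro x ⟨a, b, rfl⟩
    rw [SetLike.mem_coe, MonoidHom.mem_ker, map_commutatorElement, commutatorElement_eq_one_iff_commute]
    exact hcomm _ _
  intro hd
  apply MonoidHom.not_dvd_card_ker_transferSylow P hP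
  have h1 : orderOf (⟨c, hle hc⟩ : (MonoidHom.transferSylow P hP).ker) ∣
      Nat.card (MonoidHom.transferSylow P hP).ker := orderOf_dvd_natCard _
  rw [Subgroup.orderOf_mk] at h1
  exact hd.trans h1

/-- In a conjugacy class, an element inverted by some element of `G` is inverted by an involution,
if its centralizer has odd order. -/
theorem exists_invol_inverting {G : Type*} [Group G] [Finite G] {x g : G}
    (hodd : Odd (Nat.card (cen x))) (hx : x * x ≠ 1) (hg : g * x * g⁻¹ = x⁻¹) :
    ∃ v : G, IsInv v ∧ v * x * v⁻¹ = x⁻¹ := by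
  have hgi : g * x⁻¹ * g⁻¹ = x := by rw [← conj_inv, hg, inv_inv]
  have hg2 : g * g ∈ cen x := by
    rw [mem_cen]
    calc g * g * x = g * (g * x * g⁻¹) * g := by group
      _ = g * x⁻¹ * g⁻¹ * (g * g) := by rw [hg]; group
      _ = x * (g * g) := by rw [hgi]
  have hodd' : Odd (orderOf (g * g)) := by
    have hd : orderOf (⟨g * g, hg2⟩ : cen x) ∣ Nat.card (cen x) := orderOf_dvd_natCard _
    rw [Subgroup.orderOf_mk] at hd
    exact Odd.of_dvd_nat hodd hd
  obtain ⟨k, hk⟩ := hodd'
  set v := g * (g * g) ^ k with hv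
  have hinv : v * x * v⁻¹ = x⁻¹ := by
    have hc := mem_cen.mp ((cen x).pow_mem hg2 k)
    calc v * x * v⁻¹ = g * ((g * g) ^ k * x) * ((g * g) ^ k)⁻¹ * g⁻¹ := by rw [hv]; group
      _ = g * (x * (g * g) ^ k) * ((g * g) ^ k)⁻¹ * g⁻¹ := by rw [hc]
      _ = g * x * g⁻¹ := by group
      _ = x⁻¹ := hg
  refine ⟨v, ⟨fun e => hx ?_, ?_⟩, hinv⟩
  · rw [e] at hinv
    have : x = x⁻¹ := by simpa using hinv
    exact mul_eq_one_iff_eq_inv.mpr this
  · have hcm : Commute g ((g * g) ^ k) := ((Commute.refl g).mul_right (Commute.refl g)).pow_right k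
    calc v * v = (g * g) ^ (2 * k + 1) := by
          rw [hv, ← mul_assoc, mul_assoc g ((g * g) ^ k) g, ← hcm.eq, ← mul_assoc, mul_assoc _ ((g*g)^k),
            ← pow_add, ← pow_succ', show k + k + 1 = 2 * k + 1 by ring]
      _ = 1 := by rw [← hk, pow_orderOf_eq_one]

variable {G : Type*} [Group G] [Fintype G] {t : G} {K : Subgroup G} {s : G}
  {o : Lam K} {Θ η₁ η₂ : G → ℂ} {j : ℤ}

/-- Conjugation carrying `w` to an element with the same centralizer normalizes it. -/
theorem mem_normalizer_of_cen {G : Type*} [Group G] {w m : G}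
    (hc2 : cen (m * w * m⁻¹) = cen w) : m ∈ Subgroup.normalizer (cen w : Set G) := by
  rw [Subgroup.mem_normalizer_iff]
  intro b
  show b ∈ cen w ↔ m * b * m⁻¹ ∈ cen w
  conv_rhs => rw [← hc2]
  rw [mem_cen, mem_cen]
  constructor
  · intro e
    calc m * b * m⁻¹ * (m * w * m⁻¹) = m * (b * w) * m⁻¹ := by group
      _ = m * (w * b) * m⁻¹ := by rw [e]
      _ = _ := by group
  · intro e
    calc b * w = m⁻¹ * (m * b * m⁻¹ * (m * w * m⁻¹)) * m := by group
      _ = m⁻¹ * (m * w * m⁻¹ * (m * b * m⁻¹)) * m := by rw [e]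
      _ = w * b := by group

/-- The elements of order dividing `|N|` when `q ≡ 3 mod 4`. -/
theorem two_structure (h : Hyp t K s) (c : Core t K o Θ η₁ η₂ j) (hj : j = -2) {w : G}
    (hw : PTwo K Θ w) :
    ∃ u : G, IsInv u ∧ (∀ a ∈ cen w, u * a * u⁻¹ = a⁻¹) ∧ Nat.card (cen w) = rr K j ∧
      (∀ a ∈ cen w, ∀ b ∈ cen w, a * b = b * a) ∧
      (∀ y ∈ cen w, y ≠ 1 → Off K y ∧ cen y = cen w) ∧
      ∀ m ∈ Subgroup.normalizer (cen w : Set G), ∃ a ∈ cen w, m = a ∨ m = a * u := by
  have hoff := hw.1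
  have hfw : ff G w = (rr K j : ℂ) := (ff_values h c).1 hw
  obtain ⟨u, hu, hinv, hfc, hab, hTI⟩ := h.real_structure hoff (by
    rw [hfw, Nat.cast_ne_zero, rr, Int.natAbs_ne_zero]
    exact N_ne h c)
  have hrc : Nat.card (cen w) = rr K j := by rw [hfw] at hfc; exact_mod_cast hfc.symm
  refine ⟨u, hu, hinv, hrc, hab, hTI, fun m hmN => ?_⟩
  obtain ⟨g, hg⟩ := isConj_iff.mp (h.conj u t hu h.invol_t)
  obtain ⟨-, hEK, hdec, -⟩ := h.normalizer_structure hoff hu hinv hg hTI
  obtain ⟨a, ha, hE⟩ := hdec m hmN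
  set N := Subgroup.normalizer (cen w : Set G)
  set E := N ⊓ cen u
  have hfree : Nat.card E ∣ Nat.card (cen w) - 1 := by
    let act : MulAction E {y : cen w // y ≠ 1} :=
      { smul := fun e y => ⟨⟨(e : G) * y.1 * (e : G)⁻¹,
          ((Subgroup.mem_normalizer_iff.mp e.2.1) _).mp y.1.2⟩, fun hh => y.2 (Subtype.ext (by
            have hh' : (e : G) * (y.1 : G) * (e : G)⁻¹ = 1 := congrArg Subtype.val hh
            simpa [mul_inv_eq_one] using hh'))⟩
        one_smul := fun y => Subtype.ext (Subtype.ext (show (1 : G) * y.1 * (1 : G)⁻¹ = y.1 by simp))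
        mul_smul := fun e f y => Subtype.ext (Subtype.ext (by
          show ((e * f : E) : G) * y.1 * ((e * f : E) : G)⁻¹ =
            (e : G) * ((f : G) * y.1 * (f : G)⁻¹) * (e : G)⁻¹
          rw [Subgroup.coe_mul]; group)) }
    have h1 := dvd_of_free (E := E) (α := {y : cen w // y ≠ 1}) fun y => by
      rw [Subgroup.eq_bot_iff_forall]
      intro e he
      have he' : (e : G) * (y.1 : G) * (e : G)⁻¹ = y.1 :=
        congrArg (fun a : {y : cen w // y ≠ 1} => ((a.1 : cen w) : G)) he
      have hy : (y.1 : G) ≠ 1 := fun hh => y.2 (Subtype.ext hh)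
      have hec : (e : G) ∈ cen w := by
        rw [← (hTI _ y.1.2 hy).2, mem_cen]
        exact mul_inv_eq_iff_eq_mul.mp he'
      by_contra hne
      exact h.no_invol (hTI _ hec fun hh => hne (Subtype.ext hh)).1 hu (mem_cen.mp e.2.2)
    classical
    let _ := Fintype.ofFinite (cen w)
    rwa [Nat.card_eq_fintype_card (α := {y : cen w // y ≠ 1}), Fintype.card_subtype_compl,
      Fintype.card_subtype_eq, ← Nat.card_eq_fintype_card (α := cen w)] at h1
  have hEdvd : Nat.card E ∣ 2 * nn K := by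
    rw [two_mul_nn h]
    let φ : E →* K :=
      { toFun := fun e => ⟨g * (e : G) * g⁻¹, hEK e e.2⟩
        map_one' := Subtype.ext (by simp)
        map_mul' := fun a b => Subtype.ext (by simp [mul_assoc]) }
    exact Subgroup.card_dvd_of_injective φ fun a b e => Subtype.ext (by
      have e' : g * (a : G) * g⁻¹ = g * (b : G) * g⁻¹ := congrArg Subtype.val e
      simpa using e')
  have hrc : Nat.card (cen w) = rr K j := by rw [hfw] at hfc; exact_mod_cast hfc.symm
  -- `|E|` divides two
  have hE2 : Nat.card E ∣ 2 := by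
    have hNz := (modEq_one c).2.1
    have h1 : (Nat.card E : ℤ) ∣ (rr K j : ℤ) - 1 := by
      have : 1 ≤ rr K j := Nat.one_le_iff_ne_zero.mpr (Int.natAbs_ne_zero.mpr (N_ne h c))
      rw [← Nat.cast_one, ← Nat.cast_sub this]
      exact_mod_cast hrc ▸ hfree
    have h2 : (Nat.card E : ℤ) ∣ 2 * (nn K : ℤ) := by exact_mod_cast hEdvd
    have h3 : (Nat.card E : ℤ) ∣ NN K j - 1 := h2.trans hNz
    have hneg : NN K j < 0 := by subst hj; rw [NN]; have := nn_pos h; omega
    have h4 : (Nat.card E : ℤ) ∣ ((rr K j : ℤ) - 1) + (NN K j - 1) := h1.add h3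
    rw [rr, show ((NN K j).natAbs : ℤ) = -NN K j by omega] at h4
    have h5 : (Nat.card E : ℤ) ∣ 2 := by
      have := h4.neg_right
      ring_nf at this
      exact this
    exact_mod_cast h5
  have hm2 : (a⁻¹ * m) * (a⁻¹ * m) = 1 := by
    have h2 : (⟨a⁻¹ * m, hE⟩ : E) ^ 2 = 1 :=
      orderOf_dvd_iff_pow_eq_one.mp ((orderOf_dvd_natCard _).trans hE2)
    simpa [pow_two, Subtype.ext_iff] using h2
  refine ⟨a, ha, ?_⟩
  by_cases he1 : a⁻¹ * m = 1
  · exact Or.inl (inv_mul_eq_one.mp he1).symm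
  · right
    have h1 := h.invol_cases (IsInv.conj (u := a⁻¹ * m) ⟨he1, hm2⟩ g) (hEK _ hE)
    rw [← hg] at h1
    have heu : a⁻¹ * m = u := mul_left_cancel (mul_right_cancel h1)
    rw [← heu]; group

/-- In a subgroup of odd order a prime not dividing `q` avoids the commutator. -/
theorem commutator_prime (h : Hyp t K s) (c : Core t K o Θ η₁ η₂ j) (hj : j = -2) (M : Subgroup G)
    (hodd : Odd (Nat.card M)) (p : ℕ) (hp : p.Prime) (hpq : ¬ p ∣ qq K j) {x : M}
    (hx : x ∈ commutator M) : ¬ p ∣ orderOf x := by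
  intro hpx
  have := Fact.mk hp
  obtain ⟨P⟩ := (inferInstance : Nonempty (Sylow p M))
  refine not_dvd_commutator p P ?_ hx hpx
  intro n hn
  rw [Subgroup.mem_centralizer_iff]
  intro b hb
  by_cases hP : (P : Subgroup M) = ⊥
  · rw [SetLike.mem_coe, hP, Subgroup.mem_bot] at hb
    subst hb; simp
  have : Nontrivial (P : Subgroup M) := (Subgroup.nontrivial_iff_ne_bot _).mpr hP
  obtain ⟨⟨z, hz⟩, hz1⟩ := (Subgroup.center (P : Subgroup M)).nontrivial_iff_exists_ne_one.mp
    P.isPGroup'.center_nontrivial |> fun ⟨z, hz, hz1⟩ => (⟨⟨z, hz⟩, fun e => hz1 (congrArg Subtype.val e)⟩ :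
      ∃ z : Subgroup.center (P : Subgroup M), z ≠ 1)
  set w : G := ((z : M) : G) with hw
  have hw1 : w ≠ 1 := fun e => hz1 (Subtype.ext (Subtype.ext (Subtype.ext e)))
  have hord : ∀ a : M, Odd (orderOf (a : G)) := fun a => by
    rw [Subgroup.orderOf_coe]; exact Odd.of_dvd_nat hodd (orderOf_dvd_natCard _)
  have hw2 : w * w ≠ 1 := fun e => by
    have := hord (z : M)
    rw [← hw, isInv_iff.mp ⟨hw1, e⟩] at this
    norm_num at this
  have hcomm : ∀ y : M, y ∈ (P : Subgroup M) → (y : G) ∈ cen w := by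
    intro y hy
    have := Subgroup.mem_center_iff.mp hz ⟨y, hy⟩
    exact mem_cen.mpr (by simpa [hw] using congrArg (fun a : (P : Subgroup M) => ((a : M) : G)) this)
  -- the centralizer of `w` is abelian and no element of odd order fuses it
  have key : (∀ a ∈ cen w, ∀ b ∈ cen w, a * b = b * a) ∧
      ∀ m : G, Odd (orderOf m) → m * w * m⁻¹ ∈ cen w → m ∈ cen w := by
    by_cases hoff : Off K w
    · -- `w` has order dividing `|N|`
      have hpw : p ∣ orderOf w := by
        obtain ⟨k, hk⟩ := IsPGroup.iff_orderOf.mp P.isPGroup' z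
        have e : orderOf w = p ^ k := by rw [hw, Subgroup.orderOf_coe, Subgroup.orderOf_coe, hk]
        rcases k with _ | k
        · exact absurd (orderOf_eq_one_iff.mp (by simpa using e)) hw1
        · rw [e]; exact dvd_pow_self p (by omega)
      have hP2 : PTwo K Θ w := by
        rcases off_cases h c hoff with ⟨-, e⟩ | ⟨e, -⟩
        · exact absurd (hpw.trans e) hpq
        · exact ⟨hoff, e⟩
      obtain ⟨u, hu, hinv, -, hab, hTI, hN⟩ := two_structure h c hj hP2
      refine ⟨hab, fun m hm hmw => ?_⟩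
      -- `m` normalizes `cen w`
      have hm1 : m * w * m⁻¹ ≠ 1 := fun e => hw1 (by simpa [mul_inv_eq_one] using e)
      have hmN : m ∈ Subgroup.normalizer (cen w : Set G) :=
        mem_normalizer_of_cen (hTI _ hmw hm1).2
      obtain ⟨a, ha, hma | hma⟩ := hN m hmN
      · rw [hma]; exact ha
      · exfalso
        have hmm : m * m = 1 := by
          rw [hma]
          have e' := hinv a ha
          rw [hu.inv_eq] at e'
          calc a * u * (a * u) = a * (u * a * u) := by group
            _ = 1 := by rw [e', mul_inv_cancel]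
        have hm0 : m ≠ 1 := fun e0 => by
          have : u ∈ cen w := by
            rw [show u = a⁻¹ * m by rw [hma]; group, e0, mul_one]; exact (cen w).inv_mem ha
          exact h.no_invol hoff hu (mem_cen.mp this).symm
        rw [isInv_iff.mp ⟨hm0, hmm⟩] at hm
        norm_num at hm
    · obtain ⟨g, hg, -⟩ := (not_off_iff hw1).mpr hoff
      have hg2 : g * w * g⁻¹ * (g * w * g⁻¹) ≠ 1 := fun e => hw2 (by
        have : g * (w * w) * g⁻¹ = 1 := by rw [← e]; group
        simpa [mul_inv_eq_one] using this)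
      have hcen : ∀ a, a ∈ cen w ↔ g * a * g⁻¹ ∈ K := by
        intro a
        rw [← h.cen_eq hg hg2, mem_cen, mem_cen]
        constructor
        · intro e
          calc g * a * g⁻¹ * (g * w * g⁻¹) = g * (a * w) * g⁻¹ := by group
            _ = g * (w * a) * g⁻¹ := by rw [e]
            _ = _ := by group
        · intro e
          calc a * w = g⁻¹ * (g * a * g⁻¹ * (g * w * g⁻¹)) * g := by group
            _ = g⁻¹ * (g * w * g⁻¹ * (g * a * g⁻¹)) * g := by rw [e]
            _ = w * a := by group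
      refine ⟨fun a ha b hb => ?_, fun m hm hmw => ?_⟩
      · have e := h.comm _ ((hcen a).mp ha) _ ((hcen b).mp hb)
        calc a * b = g⁻¹ * (g * a * g⁻¹ * (g * b * g⁻¹)) * g := by group
          _ = g⁻¹ * (g * b * g⁻¹ * (g * a * g⁻¹)) * g := by rw [e]
          _ = b * a := by group
      · rw [hcen]
        have h1 : g * w * g⁻¹ ≠ 1 := fun e => hw1 (by simpa [mul_inv_eq_one] using e)
        have h2 : (g * m * g⁻¹) * (g * w * g⁻¹) * (g * m * g⁻¹)⁻¹ ∈ K := by
          have := (hcen _).mp hmw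
          simpa [mul_assoc] using this
        have hct := h.mem_cen_of_conj_mem hg h1 h2
        by_contra hnK
        have := isInv_iff.mp (h.outside hct hnK).1
        rw [show g * m * g⁻¹ = MulAut.conj g m from rfl, MulEquiv.orderOf_eq] at this
        rw [this] at hm
        norm_num at hm
  have hn' : ((n * (z : M) * n⁻¹ : M) : G) ∈ cen w :=
    hcomm _ (((Subgroup.mem_normalizer_iff.mp hn) (z : M)).mp (z : (P : Subgroup M)).2)
  have hnc : (n : G) ∈ cen w := key.2 n (hord n) (by simpa [hw] using hn')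
  exact Subtype.ext (key.1 _ (hcomm b hb) _ hnc)

theorem case_two (h : Hyp t K s) (c : Core t K o Θ η₁ η₂ j) (hj : j = -2) : Conclusion G := by
  classical
  have hn := nn_pos h
  have hq : qq K j = 4 * nn K - 1 := by subst hj; rw [qq, FF]; omega
  have hr : rr K j = 2 * nn K - 1 := by subst hj; rw [rr, NN]; omega
  have hG : Nat.card G = 4 * nn K * (qq K j * rr K j) := by rw [h.card_eq, mm_eq_mul c]
  have hP1 : Nat.card {x : G // POne K Θ x} = qq K j ^ 2 - 1 := by
    have e := (census h c).1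
    have e2 : (qq K j : ℤ) ^ 2 = FF K j ^ 2 := by rw [qq, Int.natAbs_sq]
    have h1 : 1 ≤ qq K j ^ 2 := Nat.one_le_pow _ _ (by omega)
    have : ((Nat.card {x : G // POne K Θ x} : ℕ) : ℤ) = ((qq K j ^ 2 - 1 : ℕ) : ℤ) := by
      rw [e, Nat.cast_sub h1]; push_cast; rw [e2]
    exact_mod_cast this
  have hP1' : Nat.card {x : G // POne K Θ x} = 2 * (4 * nn K * rr K j) := by
    rw [hP1, hq, hr]
    have e : (4 * nn K - 1) ^ 2 - 1 = (4 * nn K - 1 + 1) * (4 * nn K - 1 - 1) := by
      rw [← Nat.sq_sub_sq, one_pow]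
    rw [e, show 4 * nn K - 1 + 1 = 4 * nn K by omega, show 4 * nn K - 1 - 1 = 2 * (2 * nn K - 1) by omega]
    ring
  have hcls : ∀ g x, POne K Θ x → POne K Θ (g * x * g⁻¹) := fun g x hx =>
    ⟨off_conj hx.1, by rw [isClassFunction_of_isGen c.sΘ.1 x g]; exact hx.2⟩
  have hoffq : ∀ y : G, y ≠ 1 → Nat.Coprime (orderOf y) (4 * nn K) → Off K y := by
    intro y hy hco g hg
    have hd : orderOf (⟨g * y * g⁻¹, hg⟩ : K) ∣ Nat.card K := orderOf_dvd_natCard _
    rw [Subgroup.orderOf_mk, show g * y * g⁻¹ = MulAut.conj g y from rfl, MulEquiv.orderOf_eq,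
      ← two_mul_nn h] at hd
    exact hy (orderOf_eq_one_iff.mp (hco.eq_one_of_dvd (hd.trans ⟨2, by ring⟩)))
  have hpone : ∀ y : G, y ≠ 1 → orderOf y ∣ qq K j → POne K Θ y := fun y hy hd =>
    POne.of_order h c (hoffq y hy ((coprime_four c).1.coprime_dvd_left hd)) hd
  have hptwo : ∀ y : G, y ≠ 1 → orderOf y ∣ rr K j → PTwo K Θ y := fun y hy hd =>
    PTwo.of_order h c (hoffq y hy ((coprime_four c).2.coprime_dvd_left hd)) hd
  have hnoinv : ∀ y, POne K Θ y → ∀ v, IsInv v → v * y * v⁻¹ ≠ y⁻¹ := by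
    intro y hy v hv e
    have h0 := ((ff_values h c).2 hy).2 hj
    rw [ff, Nat.cast_eq_zero] at h0
    have : Nonempty {u : G // IsInv u ∧ IsInv (u * y)} := by
      refine ⟨⟨v, hv, fun e1 => ?_, ?_⟩⟩
      · exact h.not_invol hy.1 (by rw [← inv_eq_of_mul_eq_one_right e1, hv.inv_eq]; exact hv)
      · rw [hv.inv_eq] at e
        calc v * y * (v * y) = (v * y * v) * y := by group
          _ = 1 := by rw [e, inv_mul_cancel]
    exact absurd h0 Nat.card_pos.ne'
  -- centralizers and classes of the elements of order dividing `q`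
  have hcdvd : ∀ x, POne K Θ x → Nat.card (cen x) ∣ qq K j := by
    intro x hx
    have hco : Nat.Coprime (Nat.card (cen x)) (4 * nn K * rr K j) := by
      refine Nat.coprime_of_dvd fun l hl hlc hlr => ?_
      have := Fact.mk hl
      obtain ⟨⟨y, hy⟩, hyo⟩ := exists_prime_orderOf_dvd_card' l hlc
      rw [Subgroup.orderOf_mk] at hyo
      have hy1 : y ≠ 1 := fun e => hl.ne_one (by rw [← hyo, e, orderOf_one])
      have hoff : Off K y := by
        intro g hg
        have hy2 : g * y * g⁻¹ * (g * y * g⁻¹) ≠ 1 := fun e2 => by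
          have e3 : y * y = 1 := by
            have : g * (y * y) * g⁻¹ = 1 := by rw [← e2]; group
            simpa [mul_inv_eq_one] using this
          exact h.no_invol hx.1 (v := y) ⟨hy1, e3⟩ (mem_cen.mp hy).symm
        have hxin : g * x * g⁻¹ ∈ cen (g * y * g⁻¹) := by
          rw [mem_cen]
          calc g * x * g⁻¹ * (g * y * g⁻¹) = g * (x * y) * g⁻¹ := by group
            _ = g * (y * x) * g⁻¹ := by rw [mem_cen.mp hy]
            _ = _ := by group
        rw [h.cen_eq hg hy2] at hxin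
        exact hx.1 g hxin
      rcases off_cases h c hoff with ⟨-, e⟩ | ⟨e, -⟩
      · rw [hyo] at e
        exact hl.ne_one (Nat.eq_one_of_dvd_coprimes ((coprime_four c).1.mul_right coprime_qr) e hlr)
      · -- `x` would centralize an element of order dividing `|N|`
        obtain ⟨-, -, -, hcy, -⟩ := two_structure h c hj ⟨hoff, e⟩
        have hxy : x ∈ cen y := mem_cen.mpr (mem_cen.mp hy).symm
        have hd : orderOf (⟨x, hxy⟩ : cen y) ∣ Nat.card (cen y) := orderOf_dvd_natCard _
        rw [Subgroup.orderOf_mk, hcy] at hd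
        exact hx.1.ne_one (orderOf_eq_one_iff.mp
          (Nat.eq_one_of_dvd_coprimes coprime_qr (hx.order h c) hd))
    have hd := (cen x).card_subgroup_dvd_card
    rw [hG, show 4 * nn K * (qq K j * rr K j) = qq K j * (4 * nn K * rr K j) by ring] at hd
    exact hco.dvd_of_dvd_mul_right hd
  have hclass : ∀ x, POne K Θ x → Nat.card (cen x) = qq K j ∧
      ∀ y, POne K Θ y → IsConj x y ∨ IsConj x⁻¹ y := by
    intro x hx
    have hxinv : POne K Θ x⁻¹ := hpone _ (inv_ne_one.mpr hx.1.ne_one) (by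
      rw [orderOf_inv]; exact hx.order h c)
    have hdisj : ∀ y, IsConj x y → IsConj x⁻¹ y → False := by
      intro y h1 h2
      obtain ⟨g, hg⟩ := isConj_iff.mp (h1.trans h2.symm)
      obtain ⟨v, hv, e⟩ := exists_invol_inverting (h.odd_cen hx.1)
        (fun e => h.not_invol hx.1 ⟨hx.1.ne_one, e⟩) hg
      exact hnoinv x hx v hv e
    have hPc : ∀ {z y}, POne K Θ z → IsConj z y → POne K Θ y := fun {z y} hz hzy => by
      obtain ⟨g, rfl⟩ := isConj_iff.mp hzy; exact hcls g z hz
    let φ : {y : G // IsConj x y} ⊕ {y : G // IsConj x⁻¹ y} → {y : G // POne K Θ y} :=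
      Sum.elim (fun y => ⟨y.1, hPc hx y.2⟩) (fun y => ⟨y.1, hPc hxinv y.2⟩)
    have hφ : Function.Injective φ := by
      rintro (⟨a, ha⟩ | ⟨a, ha⟩) (⟨b, hb⟩ | ⟨b, hb⟩) e <;>
        simp only [φ, Sum.elim_inl, Sum.elim_inr, Subtype.mk.injEq] at e <;> subst e
      · rfl
      · exact (hdisj _ ha hb).elim
      · exact (hdisj _ hb ha).elim
      · rfl
    have hceq : cen x⁻¹ = cen x := by
      ext a
      rw [mem_cen, mem_cen]
      exact ⟨fun e => by simpa using (Commute.inv_right (e : Commute a x⁻¹)).eq,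
        fun e => (Commute.inv_right (e : Commute a x)).eq⟩
    have c1 := CfsgLib.Char.card_isConj_mul_card_centralizer x
    have c2 := CfsgLib.Char.card_isConj_mul_card_centralizer x⁻¹
    change Nat.card {y : G // IsConj x y} * Nat.card (cen x) = Nat.card G at c1
    change Nat.card {y : G // IsConj x⁻¹ y} * Nat.card (cen x⁻¹) = Nat.card G at c2
    rw [hceq] at c2
    have hle := Nat.card_le_card_of_injective φ hφ
    rw [Nat.card_sum, hP1'] at hle
    have hcle : Nat.card (cen x) ≤ qq K j := Nat.le_of_dvd (by omega) (hcdvd x hx)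
    have hb : ∀ k, k * Nat.card (cen x) = Nat.card G → 4 * nn K * rr K j ≤ k := by
      intro k hk
      refine Nat.le_of_mul_le_mul_right ?_ (show 0 < qq K j by omega)
      calc 4 * nn K * rr K j * qq K j = k * Nat.card (cen x) := by rw [hk, hG]; ring
        _ ≤ k * qq K j := Nat.mul_le_mul_left k hcle
    have b1 := hb _ c1
    have b2 := hb _ c2
    have e1 : Nat.card {y : G // IsConj x y} = 4 * nn K * rr K j := by omega
    refine ⟨?_, fun y hy => ?_⟩
    · rw [e1, hG] at c1
      refine Nat.eq_of_mul_eq_mul_left (n := 4 * nn K * rr K j) ?_ (by rw [c1]; ring)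
      exact Nat.mul_pos (by omega) (by omega)
    · have hbij : Function.Bijective φ := (Nat.bijective_iff_injective_and_card φ).mpr
        ⟨hφ, by rw [Nat.card_sum, hP1']; omega⟩
      obtain ⟨z, hz⟩ := hbij.2 ⟨y, hy⟩
      rcases z with z | z <;> simp only [φ, Sum.elim_inl, Sum.elim_inr, Subtype.mk.injEq] at hz
      · exact Or.inl (hz ▸ z.2)
      · exact Or.inr (hz ▸ z.2)
  obtain ⟨⟨x, hx⟩⟩ : Nonempty {x : G // POne K Θ x} := by
    refine (Nat.card_ne_zero.mp ?_).1
    rw [hP1']
    exact (Nat.mul_pos two_pos (Nat.mul_pos (by omega) (by omega))).ne'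
  -- all these elements have the same prime order
  set p := orderOf x with hp_def
  have hsame : ∀ y, POne K Θ y → orderOf y = p := by
    intro y hy
    rcases (hclass x hx).2 y hy with e | e <;> obtain ⟨g, rfl⟩ := isConj_iff.mp e
    · exact MulEquiv.orderOf_eq (MulAut.conj g) x
    · exact (MulEquiv.orderOf_eq (MulAut.conj g) x⁻¹).trans (orderOf_inv x)
  have hp : p.Prime := by
    obtain ⟨l, hl, hld⟩ := Nat.exists_prime_and_dvd (fun e => hx.1.ne_one (orderOf_eq_one_iff.mp e) : p ≠ 1)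
    have ho : orderOf (x ^ (p / l)) = l := orderOf_pow_orderOf_div (orderOf_pos x).ne' hld
    have h1 : x ^ (p / l) ≠ 1 := fun e => hl.ne_one (by rw [← ho, e, orderOf_one])
    have := hsame _ (hpone _ h1 (by rw [ho]; exact hld.trans (hx.order h c)))
    rw [ho] at this
    exact this ▸ hl
  have := Fact.mk hp
  obtain ⟨a, ha⟩ : ∃ a, qq K j = p ^ a := by
    refine ⟨_, Nat.eq_prime_pow_of_unique_prime_dvd (by omega : qq K j ≠ 0) fun {l} hl hld => ?_⟩
    have := Fact.mk hl
    rw [← (hclass x hx).1] at hld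
    obtain ⟨⟨y, hy⟩, hyo⟩ := exists_prime_orderOf_dvd_card' l hld
    rw [Subgroup.orderOf_mk] at hyo
    have hy1 : y ≠ 1 := fun e => hl.ne_one (by rw [← hyo, e, orderOf_one])
    rw [← hyo]
    exact hsame y (hpone y hy1 (by rw [hyo, ← (hclass x hx).1]; exact hld))
  have hpq : p ∣ qq K j := hx.order h c
  have hfac : (Nat.card G).factorization p = a := by
    have hcop : ¬ p ∣ 4 * nn K * rr K j := fun hd =>
      hp.ne_one (Nat.eq_one_of_dvd_coprimes ((coprime_four c).1.mul_right coprime_qr) hpq hd)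
    rw [hG, show 4 * nn K * (qq K j * rr K j) = qq K j * (4 * nn K * rr K j) by ring,
      Nat.factorization_mul (by omega) (Nat.mul_pos (by omega) (by omega)).ne', Finsupp.add_apply,
      Nat.factorization_eq_zero_of_not_dvd hcop, ha, hp.factorization_pow, Finsupp.single_eq_same,
      add_zero]
  have hsyl : ∀ P : Sylow p G, Nat.card P = qq K j := fun P => by
    rw [P.card_eq_multiplicity, hfac, ha]
  have hcsyl : ∀ y, POne K Θ y → ∃ P : Sylow p G, (P : Subgroup G) = cen y := fun y hy =>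
    ⟨Sylow.ofCard (cen y) (by rw [(hclass y hy).1, hfac, ha]), rfl⟩
  have hel : ∀ (P : Sylow p G) y, y ∈ (P : Subgroup G) → y ≠ 1 → POne K Θ y := by
    intro P y hy hy1
    refine hpone y hy1 ?_
    have hd : orderOf (⟨y, hy⟩ : (P : Subgroup G)) ∣ Nat.card (P : Subgroup G) := orderOf_dvd_natCard _
    rwa [Subgroup.orderOf_mk, hsyl] at hd
  -- Sylow `p`-subgroups intersect trivially
  have hTI : ∀ P Q : Sylow p G, P ≠ Q → (P : Subgroup G) ⊓ Q = ⊥ := by
    by_contra hbad
    push Not at hbad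
    obtain ⟨P₀, Q₀, hne₀, hbot₀⟩ := hbad
    let _ := Fintype.ofFinite (Sylow p G)
    obtain ⟨⟨P, Q⟩, hPQ, hmax⟩ := Finset.exists_max_image
      ((Finset.univ : Finset (Sylow p G × Sylow p G)).filter
        fun w => w.1 ≠ w.2 ∧ (w.1 : Subgroup G) ⊓ w.2 ≠ ⊥)
      (fun w => Nat.card ((w.1 : Subgroup G) ⊓ w.2 : Subgroup G)) ⟨(P₀, Q₀), by simp [hne₀, hbot₀]⟩
    simp only [Finset.mem_filter, Finset.mem_univ, true_and] at hPQ hmax
    set R : Subgroup G := (P : Subgroup G) ⊓ Q with hR
    set M := Subgroup.normalizer (R : Set G)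
    have hRp : IsPGroup p R := P.isPGroup'.to_le inf_le_left
    have hModd : Odd (Nat.card M) := by
      rw [Nat.odd_iff]
      by_contra hev
      obtain ⟨⟨v, hvM⟩, hvo⟩ := exists_prime_orderOf_dvd_card' (G := M) 2 (by omega)
      rw [Subgroup.orderOf_mk] at hvo
      have hv := isInv_iff.mpr hvo
      have : Nontrivial R := (Subgroup.nontrivial_iff_ne_bot _).mpr hPQ.2
      have := hRp.center_nontrivial
      obtain ⟨⟨z, hzc⟩, hz1⟩ := exists_ne (1 : Subgroup.center R)
      have hz1' : (z : G) ≠ 1 := fun e => hz1 (Subtype.ext (Subtype.ext e))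
      have hz' : v * (z : G) * v⁻¹ ∈ R := ((Subgroup.mem_normalizer_iff.mp hvM) _).mp z.2
      have hcom : v * (z : G) * v⁻¹ * z = z * (v * (z : G) * v⁻¹) :=
        congrArg Subtype.val (Subgroup.mem_center_iff.mp hzc ⟨_, hz'⟩)
      by_cases hy : (z : G) * (v * (z : G) * v⁻¹) = 1
      · exact hnoinv _ (hel P z (inf_le_left (a := (P : Subgroup G)) z.2) hz1') v hv
          (eq_inv_of_mul_eq_one_right hy)
      · refine h.no_invol (hel P _ (inf_le_left (a := (P : Subgroup G)) (R.mul_mem z.2 hz')) hy).1 hv ?_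
        calc (z : G) * (v * z * v⁻¹) * v = (z : G) * v * z := by group
          _ = (v * v) * (z : G) * v * z := by rw [hv.2, one_mul]
          _ = v * (v * (z : G) * v⁻¹ * z) := by rw [hv.inv_eq]; group
          _ = v * (z * (v * (z : G) * v⁻¹)) := by rw [hcom]
    have hCp : IsPGroup p (commutator M) := by
      rw [IsPGroup.iff_orderOf]
      intro y
      refine ⟨_, Nat.eq_prime_pow_of_unique_prime_dvd (orderOf_pos y).ne' fun {l} hl hld => ?_⟩
      by_contra hlp
      refine commutator_prime h c hj M hModd l hl (fun hlq => hlp ?_) y.2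
        (by rwa [Subgroup.orderOf_coe])
      rw [ha] at hlq
      exact (Nat.prime_dvd_prime_iff_eq hl hp).mp (hl.dvd_of_dvd_pow hlq)
    obtain ⟨S, hS⟩ := hCp.exists_le_sylow
    have : (S : Subgroup M).Normal := ⟨fun y hy g => by
      have h1 : ⁅g, y⁆ ∈ commutator M := Subgroup.commutator_mem_commutator (Subgroup.mem_top g) (Subgroup.mem_top y)
      rw [show g * y * g⁻¹ = ⁅g, y⁆ * y by rw [commutatorElement_def]; group]
      exact (S : Subgroup M).mul_mem (hS h1) hy⟩
    have := Sylow.unique_of_normal S this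
    obtain ⟨P'', hP''⟩ := (S.isPGroup'.map M.subtype).exists_le_sylow
    have hinto : ∀ (P₁ : Sylow p G) y, y ∈ M → y ∈ (P₁ : Subgroup G) → y ∈ (P'' : Subgroup G) := by
      intro P₁ y hyM hy
      refine hP'' ⟨⟨y, hyM⟩, ?_, rfl⟩
      obtain ⟨T, hT⟩ := (P₁.isPGroup'.comap_of_injective M.subtype M.subtype_injective).exists_le_sylow
      rw [Subsingleton.elim T S] at hT
      exact hT hy
    have hgrow : ∀ P₁ : Sylow p G, R ≤ P₁ → (P₁ : Subgroup G) ≠ R → P₁ = P'' := by
      intro P₁ hRP hne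
      by_contra hP1
      obtain ⟨y, hyM, hyP, hyR⟩ : ∃ y, y ∈ M ∧ y ∈ (P₁ : Subgroup G) ∧ y ∉ R := by
        have : Group.IsNilpotent (P₁ : Subgroup G) := P₁.isPGroup'.isNilpotent
        have hlt : R.subgroupOf P₁ < ⊤ := lt_top_iff_ne_top.mpr fun e =>
          hne (le_antisymm (Subgroup.subgroupOf_eq_top.mp e) hRP)
        obtain ⟨⟨y, hyP⟩, hy1, hy2⟩ := SetLike.exists_of_lt
          (Group.normalizerCondition_of_isNilpotent _ hlt)
        refine ⟨y, ?_, hyP, hy2⟩
        rw [Subgroup.mem_normalizer_iff]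
        intro b
        constructor
        · exact fun hb => ((Subgroup.mem_normalizer_iff.mp hy1) ⟨b, hRP hb⟩).mp hb
        · intro hb
          have hbP : b ∈ (P₁ : Subgroup G) := by
            have := (P₁ : Subgroup G).mul_mem ((P₁ : Subgroup G).mul_mem
              ((P₁ : Subgroup G).inv_mem hyP) (hRP hb)) hyP
            simpa [mul_assoc] using this
          exact ((Subgroup.mem_normalizer_iff.mp hy1) ⟨b, hbP⟩).mpr hb
      have hlt : R < (P₁ : Subgroup G) ⊓ P'' := by
        refine lt_of_le_of_ne (le_inf hRP fun b hb => hinto P₁ b (Subgroup.le_normalizer hb) (hRP hb))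
          fun e => hyR ?_
        rw [e]; exact ⟨hyP, hinto P₁ y hyM hyP⟩
      have hle : Nat.card ((P₁ : Subgroup G) ⊓ P'' : Subgroup G) ≤ Nat.card R :=
        hmax (P₁, P'') ⟨hP1, fun e => (not_lt_bot (a := R)) (e ▸ hlt)⟩
      have hlt' : Nat.card R < Nat.card ((P₁ : Subgroup G) ⊓ P'' : Subgroup G) := by
        simp only [← SetLike.coe_sort_coe, Nat.card_coe_set_eq]
        exact Set.ncard_lt_ncard hlt (Set.toFinite _)
      omega
    have hPne : ∀ P₁ P₂ : Sylow p G, P₁ ≠ P₂ → (P₁ : Subgroup G) ≠ (P₁ : Subgroup G) ⊓ P₂ :=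
      fun P₁ P₂ hne e => hne (Sylow.ext (Subgroup.eq_of_le_of_card_ge (e ▸ inf_le_right)
        (le_of_eq (by rw [hsyl, hsyl]))))
    refine hPQ.1 ((hgrow P inf_le_left (hPne P Q hPQ.1)).trans (hgrow Q inf_le_right ?_).symm)
    rw [hR, inf_comm]
    exact hPne Q P (Ne.symm hPQ.1)
  obtain ⟨A₀, hA₀⟩ := hcsyl x hx
  set A := cen x with hA
  have hAel : ∀ y ∈ A, y ≠ 1 → POne K Θ y := fun y hy hy1 => hel A₀ y (hA₀.symm ▸ hy) hy1
  have hAcen : ∀ y ∈ A, y ≠ 1 → cen y = A := by
    intro y hy hy1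
    obtain ⟨P, hP⟩ := hcsyl y (hAel y hy hy1)
    by_contra hne
    have hb := hTI P A₀ fun e => hne (by rw [← hP, e, hA₀])
    have : y ∈ (P : Subgroup G) ⊓ A₀ := ⟨hP.symm ▸ self_mem_cen y, hA₀.symm ▸ hy⟩
    rw [hb, Subgroup.mem_bot] at this
    exact hy1 this
  have hAcard : Nat.card A = qq K j := (hclass x hx).1
  -- the index of the normalizer
  set N := Subgroup.normalizer (A : Set G) with hN
  have hidx : N.index * (qq K j - 1) = Nat.card {y : G // POne K Θ y} := by
    have hc := card_conjugates ((A : Set G) \ {1}) N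
      (fun g hg a ha' => ⟨((Subgroup.mem_normalizer_iff.mp hg) a).mp ha'.1, fun e => ha'.2 (by
        have e' : g * a * g⁻¹ = 1 := e
        simpa [mul_inv_eq_one] using e')⟩)
      (fun g a ha' ha'' => by
        have h1 := hAcen a ha'.1 ha'.2
        have h2 := hAcen _ ha''.1 ha''.2
        have := mem_normalizer_of_cen (h2.trans h1.symm)
        rwa [h1] at this)
    rw [Nat.card_coe_set_eq ((A : Set G) \ {1}),
      Set.ncard_sdiff_singleton_of_mem (show (1 : G) ∈ (A : Set G) from A.one_mem),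
      ← Nat.card_coe_set_eq (A : Set G)] at hc
    change _ = N.index * (Nat.card A - 1) at hc
    rw [hAcard] at hc
    rw [← hc]
    refine Nat.card_congr (Equiv.subtypeEquivRight fun y => ⟨?_, fun hy => ?_⟩)
    · rintro ⟨g, hg, hg1⟩
      have := hcls g⁻¹ _ (hAel _ hg hg1)
      simpa [mul_assoc] using this
    · have hxi : x⁻¹ ∈ A := A.inv_mem (self_mem_cen x)
      rcases (hclass x hx).2 y hy with e | e <;> obtain ⟨g, rfl⟩ := isConj_iff.mp e
      · exact ⟨g⁻¹, by simpa [mul_assoc, hA] using self_mem_cen x,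
          fun e => hx.1.ne_one (by simpa [mul_assoc] using e)⟩
      · exact ⟨g⁻¹, by simpa [mul_assoc] using hxi,
          fun e => hx.1.ne_one (by simpa [mul_assoc] using e)⟩
  have hindex : N.index = 4 * nn K := by
    rw [hP1', hq, show 4 * nn K - 1 - 1 = 2 * rr K j by omega] at hidx
    refine Nat.eq_of_mul_eq_mul_right (m := 2 * rr K j) (by omega) ?_
    rw [hidx]; ring
  have hNcard : Nat.card N = qq K j * rr K j := by
    have := N.index_mul_card
    rw [hindex, hG] at this
    exact Nat.eq_of_mul_eq_mul_left (by omega) this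
  have hA'card : Nat.card (A.subgroupOf N) = qq K j :=
    (Nat.card_congr (Subgroup.subgroupOfEquivOfLe Subgroup.le_normalizer).toEquiv).trans hAcard
  have hA'idx : (A.subgroupOf N).index = rr K j := by
    have := (A.subgroupOf N).index_mul_card
    rw [hA'card, hNcard, mul_comm] at this
    exact Nat.eq_of_mul_eq_mul_left (by omega) this
  obtain ⟨E₀, hE₀⟩ := Subgroup.exists_right_complement'_of_coprime (N := A.subgroupOf N)
    (by rw [hA'card, hA'idx]; exact coprime_qr)
  set E := E₀.map N.subtype with hE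
  have hEcard : Nat.card E = rr K j := by
    rw [hE, Subgroup.card_map_of_injective N.subtype_injective]
    have := hE₀.card_mul_card
    rw [hA'card, hNcard] at this
    exact Nat.eq_of_mul_eq_mul_left (by omega) this
  have hEodd : Odd (Nat.card E) := by rw [hEcard, hr]; exact ⟨nn K - 1, by omega⟩
  have hEel : ∀ y ∈ E, y ≠ 1 → PTwo K Θ y := fun y hy hy1 => by
    refine hptwo y hy1 ?_
    have hd : orderOf (⟨y, hy⟩ : E) ∣ Nat.card E := orderOf_dvd_natCard _
    rwa [Subgroup.orderOf_mk, hEcard] at hd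
  have hEcomm : ∀ a b : E, a * b = b * a := by
    intro a b
    rw [← commutatorElement_eq_one_iff_mul_comm]
    by_contra hne
    have hmem : ⁅a, b⁆ ∈ commutator E :=
      Subgroup.commutator_mem_commutator (Subgroup.mem_top a) (Subgroup.mem_top b)
    obtain ⟨l, hl, hld⟩ := Nat.exists_prime_and_dvd
      (fun e => hne (orderOf_eq_one_iff.mp e) : orderOf ⁅a, b⁆ ≠ 1)
    refine commutator_prime h c hj E hEodd l hl (fun hlq => hl.ne_one ?_) hmem hld
    exact Nat.eq_one_of_dvd_coprimes coprime_qr hlq (hEcard ▸ hld.trans (orderOf_dvd_natCard _))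
  have hEN : E ≤ N := by
    rintro y ⟨y', -, rfl⟩
    exact y'.2
  refine ⟨A, E, ?_, hAcen, ⟨⟨hEcomm⟩⟩, by rw [hEcard, hAcard, hq, hr]; omega, ?_, ?_,
    fun X hXE hX => ?_⟩
  · rw [hAcard, hG, show qq K j + 1 = 4 * nn K by omega, show qq K j - 1 = 2 * rr K j by omega]
    ring
  · refine disjoint_iff.mp (Subgroup.disjoint_of_coprime_natCard ?_)
    rw [hAcard, hEcard]; exact coprime_qr
  · refine le_antisymm (fun n hn => ?_) (sup_le Subgroup.le_normalizer hEN)
    obtain ⟨⟨a', e'⟩, hmul, -⟩ := hE₀.existsUnique (⟨n, hn⟩ : N)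
    have : n = ((a' : N) : G) * ((e' : N) : G) := (congrArg Subtype.val hmul).symm
    rw [this]
    exact Subgroup.mul_mem _ (Subgroup.mem_sup_left a'.2)
      (Subgroup.mem_sup_right ⟨e', e'.2, rfl⟩)
  · obtain ⟨⟨z, hzX⟩, hz1'⟩ := X.ne_bot_iff_exists_ne_one.mp hX
    have hz1 : z ≠ 1 := fun e => hz1' (Subtype.ext e)
    obtain ⟨u, hu, hinv, hzc, hab, hTIz, hNz⟩ := two_structure h c hj (hEel z (hXE hzX) hz1)
    have hEz : E = cen z := by
      refine Subgroup.eq_of_le_of_card_ge (fun e he => mem_cen.mpr ?_) (le_of_eq (by rw [hzc, hEcard]))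
      exact congrArg Subtype.val (hEcomm ⟨e, he⟩ ⟨z, hXE hzX⟩)
    rw [hEz]
    have huz : u ∉ cen z := fun hh => h.no_invol (hEel z (hXE hzX) hz1).1 hu (mem_cen.mp hh).symm
    have hunorm : ∀ Y : Subgroup G, Y ≤ cen z → ∀ b : G, (b ∈ cen z ∨ b = u) →
        b ∈ Subgroup.normalizer (Y : Set G) := by
      intro Y hY b hb
      have key : ∀ b : G, (b ∈ cen z ∨ b = u) → ∀ y ∈ Y, b * y * b⁻¹ ∈ Y := by
        rintro b (hb | rfl) y hy
        · rw [hab b hb y (hY hy), mul_inv_cancel_right]; exact hy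
        · rw [hinv y (hY hy)]; exact Y.inv_mem hy
      rw [Subgroup.mem_normalizer_iff]
      intro y
      refine ⟨key b hb y, fun hy => ?_⟩
      have hb' : b⁻¹ ∈ cen z ∨ b⁻¹ = u :=
        hb.imp (cen z).inv_mem fun e => by rw [e, hu.inv_eq]
      have := key b⁻¹ hb' _ hy
      simpa [mul_assoc] using this
    have hNeq : Subgroup.normalizer (cen z : Set G) = cen z ⊔ Subgroup.zpowers u := by
      refine le_antisymm (fun m hm => ?_) (sup_le Subgroup.le_normalizer
        (Subgroup.zpowers_le.mpr (hunorm _ le_rfl u (Or.inr rfl))))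
      obtain ⟨b, hb, e | e⟩ := hNz m hm
      · rw [e]; exact Subgroup.mem_sup_left hb
      · rw [e]; exact Subgroup.mul_mem _ (Subgroup.mem_sup_left hb)
          (Subgroup.mem_sup_right (Subgroup.mem_zpowers u))
    refine ⟨le_antisymm (fun m hm => ?_) (fun m hm => ?_), u, isInv_iff.mp hu, huz, hinv, hNeq⟩
    · have hz' : m * z * m⁻¹ ∈ cen z := hEz ▸ hXE (((Subgroup.mem_normalizer_iff.mp hm) z).mp hzX)
      exact mem_normalizer_of_cen (hTIz _ hz' fun e => hz1 (by simpa [mul_inv_eq_one] using e)).2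
    · obtain ⟨b, hb, e | e⟩ := hNz m hm
      · rw [e]; exact hunorm X (hEz ▸ hXE) b (Or.inl hb)
      · rw [e]; exact Subgroup.mul_mem _ (hunorm X (hEz ▸ hXE) b (Or.inl hb))
          (hunorm X (hEz ▸ hXE) u (Or.inr rfl))

end CfsgLib.InvolChar.BSW
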