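import Cfsg.Agent.Lib.InvolChar.BSW.Theta

/-!
# Brauer-Suzuki-Wall: the signed characters `Θ, η₁, η₂` and the number of involutions
-/

namespace CfsgLib.InvolChar.BSW

open scoped ComplexConjugate
open CfsgLib.Char

variable {G : Type*} [Group G] [Fintype G] {t : G} {K : Subgroup G} {s : G}

/-- The signed value `F` of the degree of the Steinberg-like character. -/
noncomputable def FF (K : Subgroup G) (j : ℤ) : ℤ := 1 + 2 * (nn K : ℤ) * j

/-- The signed half of `1 + F`. -/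
noncomputable def NN (K : Subgroup G) (j : ℤ) : ℤ := 1 + (nn K : ℤ) * j

/-- The output of the character theory. -/
structure Core (t : G) (K : Subgroup G) (o : Lam K) (Θ η₁ η₂ : G → ℂ) (j : ℤ) : Prop where
  o_ne : o ≠ 1
  o_sq : o * o = 1
  uniq : ∀ a : Lam K, a * a = 1 → a = 1 ∨ a = o
  sΘ : IsSigned Θ
  s1 : IsSigned η₁
  s2 : IsSigned η₂
  o1 : Cfsg.classInner Θ η₁ = 0
  o2 : Cfsg.classInner Θ η₂ = 0
  o12 : Cfsg.classInner η₁ η₂ = 0
  eo : BB K o = Θ + η₁ + η₂
  reg : ∀ a : Lam K, Reg a → Cfsg.classInner (BB K a) Θ = 1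
  deg : Θ 1 = (FF K j : ℂ)
  hj : j = 2 ∨ j = -2
  hm : (mm G : ℤ) = FF K j * NN K j

theorem orth_of_sum {X Y Z : G → ℂ} (hX : IsSigned X) (hY : IsSigned Y)
    (hYZ : Cfsg.classInner Y Z = 0) (h : Cfsg.classInner X (Y + Z) = 0) :
    Cfsg.classInner X Y = 0 ∧ Cfsg.classInner X Z = 0 := by
  rw [classInner_add_right] at h
  suffices hXY : Cfsg.classInner X Y = 0 by exact ⟨hXY, by simpa [hXY] using h⟩
  by_contra hne
  rcases hX.eq_or_neg hY hne with rfl | rfl
  · rw [hYZ, add_zero] at h; exact hne h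
  · simp only [classInner_neg_left, hYZ, neg_zero, add_zero] at h hne; exact hne h

theorem theta_value (h : Hyp t K s) {Θ : G → ℂ} (hΘ : IsSigned Θ) {o : Lam K} (ho : o ≠ 1)
    (hall : ∀ a : Lam K, a ≠ 1 → Cfsg.classInner (BB K a) Θ = 1) {k : K} (hk : k ≠ 1) :
    Θ k = 1 := by
  classical
  have := finite_lam h
  have := Fintype.ofFinite (Lam K)
  have h1 := inner_signed_one ho hΘ (by rw [hall o ho]; exact one_ne_zero)
  have hd : ∀ a : Lam K, dd Θ a * lam a k = lam a k - if a = 1 then 1 else 0 := by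
    intro a
    by_cases ha : a = 1
    · subst ha; rw [dd_one_arg (isClassFunction_of_isGen hΘ.1)]; simp [lam]
    · rw [dd_of_inner h1, hall a ha, map_one, one_mul, if_neg ha, sub_zero]
  rw [value h (isClassFunction_of_isGen hΘ.1) hk, Finset.sum_congr rfl fun a _ => hd a,
    Finset.sum_sub_distrib, sum_all_lam h k hk]
  simp

theorem theta_congr (h : Hyp t K s) {Θ : G → ℂ} (hΘ : IsSigned Θ) {F : ℤ} (hF : Θ 1 = F)
    (hK : ∀ k : K, k ≠ 1 → Θ k = 1) : ∃ j : ℤ, F = FF K j := by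
  classical
  let _ := Fintype.ofFinite K
  obtain ⟨z, hz⟩ := classInner_gen_int (isGen_res K hΘ.1) (isGen_one (G := K))
  rw [classInner_one_right] at hz
  have hsum : ∑ k : K, Θ k = (F : ℂ) - 1 + (Nat.card K : ℂ) := by
    have : ∀ k : K, Θ k = 1 + (if k = 1 then (F : ℂ) - 1 else 0) := by
      intro k
      by_cases hk : k = 1
      · subst hk; simp [hF]
      · simp [hK k hk, hk]
    rw [Finset.sum_congr rfl fun k _ => this k, Finset.sum_add_distrib, Finset.sum_ite_eq']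
    simp [Nat.card_eq_fintype_card]
    ring
  rw [hsum] at hz
  field_simp [card_subgroup_ne_zero K] at hz
  rw [show (Nat.card K : ℂ) = 2 * nn K by exact_mod_cast (two_mul_nn h).symm] at hz
  have hz' : F - 1 + 2 * (nn K : ℤ) = 2 * (nn K : ℤ) * z := by exact_mod_cast hz
  exact ⟨z - 1, by rw [FF]; linarith⟩

theorem j_value {n m j : ℤ} (hm : Odd m)
    (e : j ^ 2 * m = 4 * (1 + 2 * n * j) * (1 + n * j)) :
    (j = 2 ∨ j = -2) ∧ m = (1 + 2 * n * j) * (1 + n * j) := by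
  have hc1 : IsCoprime j (1 + 2 * n * j) := ⟨-2 * n, 1, by ring⟩
  have hc2 : IsCoprime j (1 + n * j) := ⟨-n, 1, by ring⟩
  have hd : j ^ 2 ∣ 4 := (hc1.mul_right hc2).pow_left.dvd_of_dvd_mul_right ⟨m, by linarith⟩
  have hj0 : j ≠ 0 := fun e0 => by subst e0; norm_num at e
  have hle := Int.le_of_dvd (by norm_num) hd
  have : -2 ≤ j ∧ j ≤ 2 := by constructor <;> nlinarith
  obtain ⟨k, hk⟩ := hm
  obtain ⟨l, r⟩ := this
  interval_cases j
  · exact ⟨Or.inr rfl, by linarith⟩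
  · exfalso; ring_nf at e; omega
  · exact absurd rfl hj0
  · exfalso; ring_nf at e; omega
  · exact ⟨Or.inl rfl, by linarith⟩

theorem core_big (h : Hyp t K s) (hn : 2 ≤ nn K) :
    ∃ (o : Lam K) (Θ η₁ η₂ : G → ℂ) (j : ℤ), Core t K o Θ η₁ η₂ j := by
  classical
  have := finite_lam h
  have := Fintype.ofFinite (Lam K)
  obtain ⟨o, ho, ho2, huniq⟩ := exists_lam_zero h
  obtain ⟨Θ, hΘ, hall⟩ := exists_theta h hn ho ho2 huniq
  have hΘB : ∀ a : Lam K, a ≠ 1 → Cfsg.classInner Θ (BB K a) = 1 := fun a ha => by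
    rw [← classInner_conj_symm, hall a ha, map_one]
  have hn3 : Cfsg.classInner (BB K o - Θ) (BB K o - Θ) = ((2 : ℤ) : ℂ) := by
    rw [classInner_sub_left, classInner_sub_right, classInner_sub_right, norm_BB_zero h ho ho2,
      hall o ho, hΘB o ho, hΘ.2]
    norm_num
  obtain ⟨η₁, hη₁, -, hgen, hnorm, horth⟩ :=
    peel (isGen_sub (isGen_BB o) hΘ.1) two_pos (by norm_num) hn3
  set η₂ := BB K o - Θ - η₁ with h2def
  have hη₂ : IsSigned η₂ := ⟨hgen, by rw [hnorm]; norm_num⟩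
  have hsum : η₁ + η₂ = BB K o - Θ := by rw [h2def, add_sub_cancel]
  have ho12 := orth_of_sum hΘ hη₁ horth
    (by rw [hsum, classInner_sub_right, hΘB o ho, hΘ.2, sub_self])
  obtain ⟨l, hl⟩ := exists_reg h hn huniq
  have hY : IsSigned (BB K l - Θ) := by
    refine ⟨isGen_sub (isGen_BB l) hΘ.1, ?_⟩
    rw [classInner_sub_left, classInner_sub_right, classInner_sub_right, norm_BB_reg h hl,
      hall l hl.ne_one, hΘB l hl.ne_one, hΘ.2]
    norm_num
  have hΘ1 := inner_signed_one ho hΘ (by rw [hall o ho]; exact one_ne_zero)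
  have hY1 : Cfsg.classInner (BB K l - Θ) (fun _ => 1) = 0 := by
    rw [classInner_sub_left, inner_BB_one hl.ne_one, hΘ1, sub_zero]
  have hd : ∀ a : Lam K, dd (BB K l - Θ) a =
      (if a = l then 1 else 0) + (if a = l⁻¹ then 1 else 0) := by
    intro a
    by_cases ha : a = 1
    · subst ha
      rw [dd_one_arg (isClassFunction_of_isGen hY.1), if_neg (Ne.symm hl.ne_one),
        if_neg (Ne.symm hl.inv.ne_one), add_zero]
    · rw [dd_of_inner hY1, classInner_sub_right, hall a ha, gram_BB h ha hl.ne_one, map_sub, map_one]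
      have e1 : (a⁻¹ = l) ↔ (a = l⁻¹) :=
        ⟨fun e => by rw [← e, lam_inv_inv], fun e => by rw [e, lam_inv_inv]⟩
      simp only [e1]
      split_ifs <;> simp
  have hYt : (BB K l - Θ) t * (BB K l - Θ) t = 4 := by
    rw [value_t h hY]
    simp only [hd, add_mul, ite_mul, one_mul, zero_mul, Finset.sum_add_distrib, Finset.sum_ite_eq',
      Finset.mem_univ, if_true]
    rw [lam_inv_t h l]
    rcases lam_t_cases h l with e | e <;> rw [e] <;> norm_num
  have hΘt : Θ t = 1 := theta_value h hΘ ho hall (t_ne h)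
  obtain ⟨F, hF0, hF, -⟩ := hΘ.degree
  obtain ⟨y, hy0, hy, -⟩ := hY.degree
  have hyF : y = -1 - F := by
    have := degree_Y (K := K) hF l
    rw [hy] at this
    exact_mod_cast this
  obtain ⟨j, rfl⟩ := theta_congr h hΘ hF fun k hk => theta_value h hΘ ho hall hk
  have hq := equation h hl.ne_one hΘ hY (add_sub_cancel Θ (BB K l)).symm
  rw [hΘt, hYt, hF, hy] at hq
  have hF0' : (FF K j : ℂ) ≠ 0 := by exact_mod_cast hF0
  have hy0' : (y : ℂ) ≠ 0 := by exact_mod_cast hy0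
  field_simp at hq
  have hq' : (mm G : ℤ) * (FF K j * y + y + 4 * FF K j) = 8 * (nn K : ℤ) ^ 2 * (FF K j * y) := by
    have : (mm G : ℂ) * ((FF K j : ℂ) * y + y + 4 * FF K j) = 8 * (nn K : ℂ) ^ 2 * ((FF K j : ℂ) * y) := by
      linear_combination hq
    exact_mod_cast this
  subst hyF
  have hnpos : (0 : ℤ) < nn K := by exact_mod_cast nn_pos h
  have he : j ^ 2 * (mm G : ℤ) = 4 * (1 + 2 * (nn K : ℤ) * j) * (1 + (nn K : ℤ) * j) := by
    have hne : (4 * (nn K : ℤ) ^ 2) ≠ 0 := by positivity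
    refine mul_left_cancel₀ hne ?_
    rw [FF] at hq'
    linear_combination -hq'
  obtain ⟨hj, hm⟩ := j_value (by exact_mod_cast h.odd_mm) he
  exact ⟨o, Θ, η₁, η₂, j, ⟨ho, ho2, huniq, hΘ, hη₁, hη₂, ho12.1, ho12.2, horth,
    by rw [add_assoc, hsum, add_sub_cancel], fun a ha => hall a ha.ne_one, hF, hj, hm⟩⟩

theorem core_small (h : Hyp t K s) (hn : nn K = 1) :
    ∃ (o : Lam K) (Θ η₁ η₂ : G → ℂ) (j : ℤ), Core t K o Θ η₁ η₂ j := by
  classical
  have := finite_lam h
  have := Fintype.ofFinite (Lam K)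
  obtain ⟨o, ho, ho2, huniq⟩ := exists_lam_zero h
  have hcard : Fintype.card (Lam K) = 2 := by
    rw [← Nat.card_eq_fintype_card, card_lam_eq h, hn]
  have huniv : (Finset.univ : Finset (Lam K)) = {1, o} :=
    (Finset.eq_univ_of_card _ (by rw [Finset.card_pair (Ne.symm ho), hcard])).symm
  have htwo : ∀ a : Lam K, a = 1 ∨ a = o := fun a => by
    have := Finset.mem_univ a
    rw [huniv] at this
    simpa using this
  have hnoreg : ∀ a : Lam K, ¬ Reg a := fun a ha => by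
    rcases htwo a with rfl | rfl
    · exact ha.ne_one rfl
    · exact ha ho2
  have hot : lam o ⟨t, h.t_mem⟩ = -1 := by
    have hs := sum_all_lam h ⟨t, h.t_mem⟩ (t_ne h)
    rw [huniv, Finset.sum_pair (Ne.symm ho)] at hs
    have : lam (1 : Lam K) ⟨t, h.t_mem⟩ = 1 := by simp [lam]
    linear_combination hs - this
  obtain ⟨X, hX, hBX, hg1, hn1, ho1⟩ := peel (isGen_BB (G := G) o) three_pos le_rfl (norm_BB_zero h ho ho2)
  obtain ⟨Y, hY, hBY, hg2, hn2, ho23⟩ := peel hg1 (by norm_num) (by norm_num) hn1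
  set Z := BB K o - X - Y with hZdef
  have hZ : IsSigned Z := ⟨hg2, by rw [hn2]; norm_num⟩
  have hsum : X + Y + Z = BB K o := by rw [hZdef]; abel
  have hXYZ := orth_of_sum hX hY ho23 (by
    rw [show Y + Z = BB K o - X by rw [hZdef]; abel]; exact ho1)
  have hYX : Cfsg.classInner Y X = 0 := by rw [← classInner_conj_symm, hXYZ.1, map_zero]
  have hZX : Cfsg.classInner Z X = 0 := by rw [← classInner_conj_symm, hXYZ.2, map_zero]
  have hZY : Cfsg.classInner Z Y = 0 := by rw [← classInner_conj_symm, ho23, map_zero]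
  have hat : ∀ W : G → ℂ, IsSigned W → Cfsg.classInner (BB K o) W = 1 →
      W t = 1 ∧ ∃ w : ℤ, w ≠ 0 ∧ W 1 = w ∧ (4 : ℤ) ∣ w - 1 ∧ w ∣ (mm G : ℤ) := by
    intro W hW hBW
    have hW1 := inner_signed_one ho hW (by rw [hBW]; exact one_ne_zero)
    have hWt : W t = 1 := by
      rw [value_t h hW, huniv, Finset.sum_pair (Ne.symm ho),
        dd_one_arg (isClassFunction_of_isGen hW.1), dd_of_inner hW1, hBW, map_one, hot]
      ring
    refine ⟨hWt, ?_⟩
    obtain ⟨w, hw0, hw, hwd⟩ := hW.degree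
    let _ := Fintype.ofFinite (cen t)
    obtain ⟨z, hz⟩ := classInner_gen_int (isGen_res (cen t) hW.1) (isGen_one (G := cen t))
    rw [classInner_one_right] at hz
    have hval : ∀ g : cen t, W g = 1 + (if g = 1 then (w : ℂ) - 1 else 0) := by
      intro g
      by_cases hg : g = 1
      · subst hg; simp [hw]
      · have hgI : IsInv (g : G) := by
          by_cases hgK : (g : G) ∈ K
          · have h2 : Nat.card K = 2 := by rw [← two_mul_nn h, hn]
            have hg2 : (⟨g, hgK⟩ : K) ^ 2 = 1 := h2 ▸ pow_card_eq_one'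
            exact ⟨fun e => hg (Subtype.ext e), by simpa [pow_two, Subtype.ext_iff] using hg2⟩
          · exact (h.outside g.2 hgK).1
        rw [if_neg hg, add_zero, ← hWt]
        exact (isClassFunction_iff.mp (isClassFunction_of_isGen hW.1) _ _ (h.conj _ _ h.invol_t hgI)).symm
    rw [Finset.sum_congr rfl fun g _ => hval g, Finset.sum_add_distrib, Finset.sum_ite_eq'] at hz
    simp only [Finset.sum_const, Finset.card_univ, ← Nat.card_eq_fintype_card, Finset.mem_univ,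
      if_true, h.card_cen, hn, nsmul_eq_mul, mul_one] at hz
    push_cast at hz
    have h4 : w - 1 + 4 = 4 * z := by
      have : (w : ℂ) - 1 + 4 = 4 * z := by linear_combination 4 * hz
      exact_mod_cast this
    refine ⟨w, hw0, hw, ⟨z - 1, by linarith⟩, ?_⟩
    have hodd : Odd w.natAbs := by
      rw [Int.natAbs_odd]
      exact ⟨2 * (z - 1), by linarith⟩
    rw [h.card_eq, hn, mul_one] at hwd
    have hd : w.natAbs ∣ mm G :=
      (Nat.Coprime.pow_right 2 (Nat.coprime_two_right.mpr hodd)).dvd_of_dvd_mul_left hwd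
    exact Int.natAbs_dvd.mp (by exact_mod_cast hd)
  have hBY' : Cfsg.classInner (BB K o) Y = 1 := by
    rw [← hsum, classInner_add_left, classInner_add_left, hXYZ.1, hY.2, hZY]; norm_num
  have hBZ : Cfsg.classInner (BB K o) Z = 1 := by
    rw [← hsum, classInner_add_left, classInner_add_left, hXYZ.2, ho23, hZ.2]; norm_num
  obtain ⟨hXt, a, ha0, ha, ha4, had⟩ := hat X hX hBX
  obtain ⟨hYt, b, hb0, hb, hb4, hbd⟩ := hat Y hY hBY'
  obtain ⟨hZt, c, hc0, hc, hc4, hcd⟩ := hat Z hZ hBZ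
  have hdeg : a + b + c = -1 := by
    have := congrFun hsum 1
    rw [BB_one, Pi.add_apply, Pi.add_apply, ha, hb, hc] at this
    exact_mod_cast this
  have hq := equation_three h ho hX hY hZ hsum.symm
  rw [hXt, hYt, hZt, ha, hb, hc, hn] at hq
  have a0 : (a : ℂ) ≠ 0 := by exact_mod_cast ha0
  have b0 : (b : ℂ) ≠ 0 := by exact_mod_cast hb0
  have c0 : (c : ℂ) ≠ 0 := by exact_mod_cast hc0
  field_simp at hq
  have hq' : (mm G : ℤ) * (a * b * c + b * c + a * c + a * b) = 8 * (a * b * c) := by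
    have : (mm G : ℂ) * ((a : ℂ) * b * c + b * c + a * c + a * b) = 8 * ((a : ℂ) * b * c) := by
      push_cast at hq
      linear_combination hq
    exact_mod_cast this
  -- assemble
  have mk : ∀ (Θ η₁ η₂ : G → ℂ) (j : ℤ), IsSigned Θ → IsSigned η₁ → IsSigned η₂ →
      Cfsg.classInner Θ η₁ = 0 → Cfsg.classInner Θ η₂ = 0 → Cfsg.classInner η₁ η₂ = 0 →
      BB K o = Θ + η₁ + η₂ → Θ 1 = (FF K j : ℂ) → (j = 2 ∨ j = -2) →
      (mm G : ℤ) = FF K j * NN K j → ∃ (o : Lam K) (Θ η₁ η₂ : G → ℂ) (j : ℤ), Core t K o Θ η₁ η₂ j :=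
    fun Θ η₁ η₂ j a1 a2 a3 a4 a5 a6 a7 a8 a9 a10 =>
      ⟨o, Θ, η₁, η₂, j, ⟨ho, ho2, huniq, a1, a2, a3, a4, a5, a6, a7,
        fun a ha => absurd ha (hnoreg a), a8, a9, a10⟩⟩
  rcases small_degrees h.odd_mm had hbd hcd ha4 hb4 hc4 hdeg hq' with ⟨hm, e⟩ | ⟨hm, e⟩
  · have hF : FF K (-2) = -3 := by rw [FF, hn]; norm_num
    have hm' : (mm G : ℤ) = FF K (-2) * NN K (-2) := by rw [hm, FF, NN, hn]; norm_num
    rcases e with e | e | e
    · exact mk X Y Z (-2) hX hY hZ hXYZ.1 hXYZ.2 ho23 hsum.symm (by rw [ha, e, hF]) (Or.inr rfl) hm'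
    · exact mk Y X Z (-2) hY hX hZ hYX ho23 hXYZ.2 (by rw [← hsum]; abel) (by rw [hb, e, hF])
        (Or.inr rfl) hm'
    · exact mk Z X Y (-2) hZ hX hY hZX hZY hXYZ.1 (by rw [← hsum]; abel) (by rw [hc, e, hF])
        (Or.inr rfl) hm'
  · have hF : FF K 2 = 5 := by rw [FF, hn]; norm_num
    have hm' : (mm G : ℤ) = FF K 2 * NN K 2 := by rw [hm, FF, NN, hn]; norm_num
    rcases e with e | e | e
    · exact mk X Y Z 2 hX hY hZ hXYZ.1 hXYZ.2 ho23 hsum.symm (by rw [ha, e, hF]) (Or.inl rfl) hm'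
    · exact mk Y X Z 2 hY hX hZ hYX ho23 hXYZ.2 (by rw [← hsum]; abel) (by rw [hb, e, hF])
        (Or.inl rfl) hm'
    · exact mk Z X Y 2 hZ hX hY hZX hZY hXYZ.1 (by rw [← hsum]; abel) (by rw [hc, e, hF])
        (Or.inl rfl) hm'

theorem core (h : Hyp t K s) :
    ∃ (o : Lam K) (Θ η₁ η₂ : G → ℂ) (j : ℤ), Core t K o Θ η₁ η₂ j := by
  rcases (show nn K = 1 ∨ 2 ≤ nn K by have := nn_pos h; omega) with hn | hn
  · exact core_small h hn
  · exact core_big h hn

end CfsgLib.InvolChar.BSW
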