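import Cfsg.Agent.Lib.InvolChar.BSW.Census

/-!
# Brauer-Suzuki-Wall: the case `q ≡ 1 mod 4`
-/

namespace CfsgLib.InvolChar.BSW

open CfsgLib.Char

variable {G : Type*} [Group G] [Fintype G] {t : G} {K : Subgroup G} {s : G}
  {o : Lam K} {Θ η₁ η₂ : G → ℂ} {j : ℤ}

/-- The statement to be proved. -/
def Conclusion (G : Type*) [Group G] : Prop :=
  ∃ Q D : Subgroup G, 2 * Nat.card G = Nat.card ↥Q * (Nat.card ↥Q + 1) * (Nat.card ↥Q - 1) ∧
      (∀ x ∈ Q, x ≠ 1 → Subgroup.centralizer ({x} : Set G) = Q) ∧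
      IsMulCommutative ↥D ∧ 2 * Nat.card ↥D + 1 = Nat.card ↥Q ∧ Q ⊓ D = ⊥ ∧
      Subgroup.normalizer (Q : Set G) = Q ⊔ D ∧
      ∀ X : Subgroup G, X ≤ D → X ≠ ⊥ →
        Subgroup.normalizer (X : Set G) = Subgroup.normalizer (D : Set G) ∧
        ∃ u : G, orderOf u = 2 ∧ u ∉ D ∧ (∀ d ∈ D, u * d * u⁻¹ = d⁻¹) ∧
          Subgroup.normalizer (D : Set G) = D ⊔ Subgroup.zpowers u

/-- Nonidentity elements of a subgroup all of whose nonidentity elements are in a class `P`. -/
theorem conj_count (P : G → Prop) (A : Subgroup G) (hP : ∀ y ∈ A, y ≠ 1 → P y)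
    (hclass : ∀ g x, P x → P (g * x * g⁻¹))
    (hTI : ∀ y ∈ A, y ≠ 1 → cen y = A) :
    (Subgroup.normalizer (A : Set G)).index * (Nat.card A - 1) ≤ Nat.card {x : G // P x} := by
  classical
  have hc := card_conjugates ((A : Set G) \ {1}) (Subgroup.normalizer (A : Set G))
    (fun g hg a ha => ⟨((Subgroup.mem_normalizer_iff.mp hg) a).mp ha.1, fun e => ha.2 (by
      have e' : g * a * g⁻¹ = 1 := e
      simpa [mul_inv_eq_one] using e')⟩)
    (fun g a ha ha' => by
      -- `g A g⁻¹ = A`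
      have h2 : cen (g * a * g⁻¹) = A := hTI _ ha'.1 ha'.2
      have h1 : cen a = A := hTI a ha.1 ha.2
      rw [Subgroup.mem_normalizer_iff]
      intro b
      show b ∈ A ↔ g * b * g⁻¹ ∈ A
      rw [← h1, mem_cen]
      conv_rhs => rw [h1, ← h2, mem_cen]
      constructor
      · intro e
        calc g * b * g⁻¹ * (g * a * g⁻¹) = g * (b * a) * g⁻¹ := by group
          _ = g * (a * b) * g⁻¹ := by rw [e]
          _ = _ := by group
      · intro e
        calc b * a = g⁻¹ * (g * b * g⁻¹ * (g * a * g⁻¹)) * g := by group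
          _ = g⁻¹ * (g * a * g⁻¹ * (g * b * g⁻¹)) * g := by rw [e]
          _ = a * b := by group)
  rw [Nat.card_coe_set_eq, Set.ncard_sdiff_singleton_of_mem (show (1 : G) ∈ (A : Set G) from A.one_mem),
    ← Nat.card_coe_set_eq] at hc
  rw [show (A : Set G) = {x | x ∈ A} from rfl] at hc
  refine le_of_eq_of_le hc.symm (Nat.card_le_card_of_injective
    (fun x => ⟨x.1, ?_⟩) fun a b e => ?_)
  · obtain ⟨g, hg, hg1⟩ := x.2
    have := hclass g⁻¹ _ (hP _ hg hg1)
    simpa [mul_assoc] using this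
  · exact Subtype.ext (congrArg Subtype.val e :)

omit [Fintype G] in
theorem off_conj {g x : G} (hx : Off K x) : Off K (g * x * g⁻¹) := fun k hk =>
  hx (k * g) (by simpa [mul_assoc] using hk)

theorem case_one (h : Hyp t K s) (c : Core t K o Θ η₁ η₂ j) (hj : j = 2) : Conclusion G := by
  classical
  have hn := nn_pos h
  have hF : FF K j = 4 * (nn K : ℤ) + 1 := by subst hj; rw [FF]; ring
  have hN : NN K j = 2 * (nn K : ℤ) + 1 := by subst hj; rw [NN]; ring
  have hq : qq K j = 4 * nn K + 1 := by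
    rw [qq, hF]; rw [show (4 * (nn K : ℤ) + 1) = ((4 * nn K + 1 : ℕ) : ℤ) by push_cast; ring]
    exact Int.natAbs_natCast _
  have hr : rr K j = 2 * nn K + 1 := by
    rw [rr, hN]; rw [show (2 * (nn K : ℤ) + 1) = ((2 * nn K + 1 : ℕ) : ℤ) by push_cast; ring]
    exact Int.natAbs_natCast _
  have hP1 : Nat.card {x : G // POne K Θ x} = qq K j ^ 2 - 1 := by
    have e := (census h c).1
    have e2 : (qq K j : ℤ) ^ 2 = FF K j ^ 2 := by rw [qq, Int.natAbs_sq]
    have h1 : 1 ≤ qq K j ^ 2 := Nat.one_le_pow _ _ (by omega)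
    have : ((Nat.card {x : G // POne K Θ x} : ℕ) : ℤ) = ((qq K j ^ 2 - 1 : ℕ) : ℤ) := by
      rw [e, Nat.cast_sub h1]; push_cast; rw [e2]
    exact_mod_cast this
  obtain ⟨⟨x, hx⟩⟩ : Nonempty {x : G // POne K Θ x} := by
    refine (Nat.card_ne_zero.mp ?_).1
    rw [hP1]
    have : 2 ^ 2 ≤ qq K j ^ 2 := Nat.pow_le_pow_left (by omega) 2
    omega
  have hfx : ff G x = (qq K j : ℂ) := ((ff_values h c).2 hx).1 hj
  obtain ⟨u, hu, hinv, hfc, -, hTI⟩ := h.real_structure hx.1 (by rw [hfx]; simp; omega)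
  have hA : Nat.card (cen x) = qq K j := by
    rw [hfx] at hfc; exact_mod_cast hfc.symm
  obtain ⟨g, hg⟩ := isConj_iff.mp (h.conj u t hu h.invol_t)
  obtain ⟨-, hEK, hdec, hcardN⟩ := h.normalizer_structure hx.1 hu hinv hg hTI
  set A := cen x with hAdef
  set N := Subgroup.normalizer (A : Set G)
  set E := N ⊓ cen u with hE
  set D := K.comap (MulAut.conj g).toMonoidHom with hD
  have hmemD : ∀ e, e ∈ D ↔ g * e * g⁻¹ ∈ K := fun e => Iff.rfl
  have hDcard : Nat.card D = 2 * nn K := by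
    rw [two_mul_nn h]
    exact Nat.card_congr
      { toFun := fun e => ⟨g * e * g⁻¹, e.2⟩
        invFun := fun k => ⟨g⁻¹ * k * g, by rw [hmemD]; simp [mul_assoc]⟩
        left_inv := fun e => Subtype.ext (by simp [mul_assoc])
        right_inv := fun k => Subtype.ext (by simp [mul_assoc]) }
  have hED : E ≤ D := fun e he => hEK e he
  have hclassP : ∀ g x, POne K Θ x → POne K Θ (g * x * g⁻¹) := fun g x hx =>
    ⟨off_conj hx.1, by rw [isClassFunction_of_isGen c.sΘ.1 x g]; exact hx.2⟩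
  have hPA : ∀ y ∈ A, y ≠ 1 → POne K Θ y := fun y hy hy1 => by
    refine POne.of_order h c (hTI y hy hy1).1 ?_
    have hd : orderOf (⟨y, hy⟩ : A) ∣ Nat.card A := orderOf_dvd_natCard _
    rwa [Subgroup.orderOf_mk, hA] at hd
  have hcount := conj_count (POne K Θ) A hPA hclassP (fun y hy hy1 => (hTI y hy hy1).2)
  rw [hP1, hA] at hcount
  have hG : Nat.card G = 4 * nn K * (qq K j * rr K j) := by rw [h.card_eq, mm_eq_mul c]
  have hidx := N.index_mul_card
  rw [hcardN, hA, hG] at hidx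
  have hEle : Nat.card E ≤ 2 * nn K := hDcard ▸ Subgroup.card_le_of_le hED
  have hidle : N.index ≤ qq K j + 1 := by
    have e : qq K j ^ 2 - 1 = (qq K j + 1) * (qq K j - 1) := by
      rw [← Nat.sq_sub_sq, one_pow]
    rw [e] at hcount
    exact Nat.le_of_mul_le_mul_right hcount (by omega)
  have hprod : N.index * Nat.card E = (qq K j + 1) * (2 * nn K) := by
    have h1 : qq K j * (N.index * Nat.card E) = qq K j * (4 * nn K * rr K j) := by
      rw [← mul_assoc, mul_comm (qq K j) N.index, mul_assoc, hidx]; ring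
    rw [Nat.eq_of_mul_eq_mul_left (by omega) h1, hr, hq]; ring
  have hEcard : Nat.card E = 2 * nn K := by
    by_contra hne
    have hlt : Nat.card E < 2 * nn K := lt_of_le_of_ne hEle hne
    have : N.index * Nat.card E < (qq K j + 1) * (2 * nn K) :=
      Nat.mul_lt_mul_of_le_of_lt hidle hlt (by omega)
    omega
  have hDE : E = D := Subgroup.eq_of_le_of_card_ge hED (le_of_eq (by rw [hEcard, hDcard]))
  set s' := g⁻¹ * s * g with hs'
  have hconjs : g * s' * g⁻¹ = s := by rw [hs']; group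
  have hDcen : D ≤ cen u := hDE ▸ inf_le_right
  have hs'u : s' ∈ cen u := by
    rw [mem_cen]
    have e := mem_cen.mp h.s_mem
    calc s' * u = g⁻¹ * (s * (g * u * g⁻¹)) * g := by rw [hs']; group
      _ = g⁻¹ * (g * u * g⁻¹ * s) * g := by rw [hg, e]
      _ = _ := by rw [hs']; group
  have hs'D : s' ∉ D := fun e => h.s_not_mem (by
    have := (hmemD s').mp e
    rwa [hconjs] at this)
  have hs'inv : ∀ d ∈ D, s' * d * s'⁻¹ = d⁻¹ := by
    intro d hd
    have e := h.inverts _ ((hmemD d).mp hd)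
    calc s' * d * s'⁻¹ = g⁻¹ * (s * (g * d * g⁻¹) * s⁻¹) * g := by rw [hs']; group
      _ = d⁻¹ := by rw [e]; group
  have hcenu : ∀ n, n ∈ cen u → g * n * g⁻¹ ∈ cen t := by
    intro n hn
    rw [mem_cen, ← hg]
    calc g * n * g⁻¹ * (g * u * g⁻¹) = g * (n * u) * g⁻¹ := by group
      _ = g * (u * n) * g⁻¹ := by rw [mem_cen.mp hn]
      _ = _ := by group
  have hsup : cen u = D ⊔ Subgroup.zpowers s' := by
    refine le_antisymm (fun n hn => ?_) (sup_le hDcen (Subgroup.zpowers_le.mpr hs'u))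
    rcases h.cases (hcenu n hn) with e | e
    · exact Subgroup.mem_sup_left ((hmemD n).mpr e)
    · have h1 : n * s' ∈ D := (hmemD _).mpr (by
        have : g * (n * s') * g⁻¹ = g * n * g⁻¹ * s := by rw [← hconjs]; group
        rw [this]; exact e)
      have : n = n * s' * s'⁻¹ := by group
      rw [this]
      exact Subgroup.mul_mem _ (Subgroup.mem_sup_left h1)
        (Subgroup.mem_sup_right (Subgroup.inv_mem _ (Subgroup.mem_zpowers s')))
  have hnormX : ∀ X : Subgroup G, X ≤ D → X ≠ ⊥ → Subgroup.normalizer (X : Set G) = cen u := by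
    intro X hXD hX
    refine le_antisymm (fun n hn => ?_) (fun n hn => ?_)
    · obtain ⟨⟨z, hz⟩, hz1'⟩ := X.ne_bot_iff_exists_ne_one.mp hX
      have hz1 : z ≠ 1 := fun e => hz1' (Subtype.ext e)
      have hz' : n * z * n⁻¹ ∈ X := ((Subgroup.mem_normalizer_iff.mp hn) z).mp hz
      have h2 : g * z * g⁻¹ ≠ 1 := fun e => hz1 (by simpa [mul_inv_eq_one] using e)
      have h3 : (g * n * g⁻¹) * (g * z * g⁻¹) * (g * n * g⁻¹)⁻¹ ∈ K := by
        have := (hmemD _).mp (hXD hz')
        simpa [mul_assoc] using this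
      have hct := mem_cen.mp (h.mem_cen_of_conj_mem ((hmemD z).mp (hXD hz)) h2 h3)
      rw [mem_cen]
      rw [← hg] at hct
      calc n * u = g⁻¹ * (g * n * g⁻¹ * (g * u * g⁻¹)) * g := by group
        _ = g⁻¹ * (g * u * g⁻¹ * (g * n * g⁻¹)) * g := by rw [hct]
        _ = u * n := by group
    · have key : ∀ n ∈ cen u, ∀ z ∈ X, n * z * n⁻¹ ∈ X := by
        intro n hn z hz
        have he : n * z * n⁻¹ = g⁻¹ * ((g * n * g⁻¹) * (g * z * g⁻¹) * (g * n * g⁻¹)⁻¹) * g := by group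
        rcases h.fusion (hcenu n hn) ((hmemD z).mp (hXD hz)) with ⟨-, e⟩ | ⟨-, e⟩ <;> rw [he, e]
        · have : g⁻¹ * (g * z * g⁻¹) * g = z := by group
          rw [this]; exact hz
        · have : g⁻¹ * (g * z * g⁻¹)⁻¹ * g = z⁻¹ := by group
          rw [this]; exact X.inv_mem hz
      rw [Subgroup.mem_normalizer_iff]
      intro z
      refine ⟨key n hn z, fun hz => ?_⟩
      have := key n⁻¹ ((cen u).inv_mem hn) _ hz
      simpa [mul_assoc] using this
  have hDbot : D ≠ ⊥ := fun e => by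
    rw [e, Subgroup.card_bot] at hDcard; omega
  refine ⟨A, D, ?_, fun y hy hy1 => (hTI y hy hy1).2,
    ⟨⟨fun a b => Subtype.ext ?_⟩⟩, by rw [hDcard, hA, hq]; ring, ?_, ?_, fun X hXD hX => ?_⟩
  · rw [hA, hG, hq, hr, Nat.add_sub_cancel]; ring
  · have e := h.comm _ a.2 _ b.2
    simp only [MulEquiv.coe_toMonoidHom, MulAut.conj_apply] at e
    show (a : G) * b = b * a
    calc (a : G) * b = g⁻¹ * (g * a * g⁻¹ * (g * b * g⁻¹)) * g := by group
      _ = g⁻¹ * (g * b * g⁻¹ * (g * a * g⁻¹)) * g := by rw [e]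
      _ = _ := by group
  · refine disjoint_iff.mp (Subgroup.disjoint_of_coprime_natCard ?_)
    rw [hA, hDcard]
    exact (coprime_four c).1.coprime_dvd_right ⟨2, by ring⟩
  · refine le_antisymm (fun n hn => ?_) (sup_le Subgroup.le_normalizer (hDE ▸ inf_le_left))
    obtain ⟨a, ha, hae⟩ := hdec n hn
    rw [show n = a * (a⁻¹ * n) by group]
    exact Subgroup.mul_mem _ (Subgroup.mem_sup_left ha) (Subgroup.mem_sup_right (hED hae))
  · refine ⟨by rw [hnormX X hXD hX, hnormX D le_rfl hDbot], s', ?_, hs'D, hs'inv, ?_⟩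
    · rw [← isInv_iff]
      have := h.invol_s.conj g⁻¹
      rwa [inv_inv, ← hs'] at this
    · rw [hnormX D le_rfl hDbot, hsup]

end CfsgLib.InvolChar.BSW
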