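import Cfsg.Agent.Lib.InvolChar.BSW.Offs

/-!
# Brauer-Suzuki-Wall: census of the elements and normalizers of real centralizers
-/

namespace CfsgLib.InvolChar.BSW

open scoped ComplexConjugate
open CfsgLib.Char

variable {G : Type*} [Group G] [Fintype G] {t : G} {K : Subgroup G} {s : G}
  {o : Lam K} {Θ η₁ η₂ : G → ℂ} {j : ℤ}

variable (K Θ) in
/-- Elements whose order divides `|F|`. -/
def POne (x : G) : Prop := Off K x ∧ Θ x = 0

variable (K Θ) in
/-- Elements whose order divides `|N|`. -/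
def PTwo (x : G) : Prop := Off K x ∧ Θ x = -1

theorem POne.order (h : Hyp t K s) (c : Core t K o Θ η₁ η₂ j) {x : G} (hx : POne K Θ x) :
    orderOf x ∣ qq K j := by
  rcases off_cases h c hx.1 with ⟨-, e⟩ | ⟨e, -⟩
  · exact e
  · rw [hx.2] at e; norm_num at e

theorem PTwo.order (h : Hyp t K s) (c : Core t K o Θ η₁ η₂ j) {x : G} (hx : PTwo K Θ x) :
    orderOf x ∣ rr K j := by
  rcases off_cases h c hx.1 with ⟨e, -⟩ | ⟨-, e⟩
  · rw [hx.2] at e; norm_num at e
  · exact e

theorem POne.of_order (h : Hyp t K s) (c : Core t K o Θ η₁ η₂ j) {x : G} (hx : Off K x)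
    (hd : orderOf x ∣ qq K j) : POne K Θ x := by
  rcases off_cases h c hx with ⟨e, -⟩ | ⟨-, e⟩
  · exact ⟨hx, e⟩
  · exact absurd (orderOf_eq_one_iff.mp (Nat.dvd_one.mp (coprime_qr (K := K) (j := j) ▸ Nat.dvd_gcd hd e)))
      hx.ne_one

theorem PTwo.of_order (h : Hyp t K s) (c : Core t K o Θ η₁ η₂ j) {x : G} (hx : Off K x)
    (hd : orderOf x ∣ rr K j) : PTwo K Θ x := by
  rcases off_cases h c hx with ⟨-, e⟩ | ⟨e, -⟩
  · exact absurd (orderOf_eq_one_iff.mp (Nat.dvd_one.mp (coprime_qr (K := K) (j := j) ▸ Nat.dvd_gcd e hd)))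
      hx.ne_one
  · exact ⟨hx, e⟩

variable (K) in
/-- Conjugates of nonidentity elements of `K`. -/
def InK (x : G) : Prop := ∃ g : G, g * x * g⁻¹ ∈ ((K : Set G) \ {1})

omit [Fintype G] in
theorem not_off_iff {x : G} (hx : x ≠ 1) : InK K x ↔ ¬ Off K x := by
  constructor
  · rintro ⟨g, hg, -⟩ hoff
    exact hoff g hg
  · intro hn
    simp only [Off, not_forall, not_not] at hn
    obtain ⟨g, hg⟩ := hn
    exact ⟨g, hg, fun e => hx (by
      have e' : g * x * g⁻¹ = 1 := e
      simpa [mul_inv_eq_one] using e')⟩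

theorem card_inK (h : Hyp t K s) :
    (Nat.card {x : G // InK K x} : ℤ) = (mm G : ℤ) * (2 * nn K - 1) := by
  have hc := card_conjugates ((K : Set G) \ {1}) (cen t)
    (fun g hg a ha => ⟨h.normal hg ha.1, fun e => ha.2 (by
      have e' : g * a * g⁻¹ = 1 := e
      simpa [mul_inv_eq_one] using e')⟩)
    (fun g a ha ha' => h.mem_cen_of_conj_mem ha.1 ha.2 ha'.1)
  have e : Nat.card {x : G // InK K x} = (cen t).index * Nat.card ↥((K : Set G) \ {1}) := hc
  rw [e, Nat.card_coe_set_eq, Set.ncard_sdiff_singleton_of_mem (show (1 : G) ∈ (K : Set G) from K.one_mem),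
    ← Nat.card_coe_set_eq, ← h.mm_index]
  rw [show Nat.card ↥(K : Set G) = 2 * nn K from (two_mul_nn h).symm]
  have := nn_pos h
  push_cast [Nat.cast_sub (show 1 ≤ 2 * nn K by omega)]
  ring

theorem census (h : Hyp t K s) (c : Core t K o Θ η₁ η₂ j) :
    (Nat.card {x : G // POne K Θ x} : ℤ) = FF K j ^ 2 - 1 ∧
      (Nat.card {x : G // PTwo K Θ x} : ℤ) = FF K j * (1 + (2 * nn K - 1) * NN K j) := by
  classical
  have htri : ∀ x : G, (x = 1 ∧ ¬ InK K x ∧ ¬ POne K Θ x ∧ ¬ PTwo K Θ x) ∨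
      (x ≠ 1 ∧ InK K x ∧ ¬ POne K Θ x ∧ ¬ PTwo K Θ x ∧ Θ x = 1) ∨
      (x ≠ 1 ∧ ¬ InK K x ∧ POne K Θ x ∧ ¬ PTwo K Θ x) ∨
      (x ≠ 1 ∧ ¬ InK K x ∧ ¬ POne K Θ x ∧ PTwo K Θ x) := by
    intro x
    by_cases hx : x = 1
    · refine Or.inl ⟨hx, ?_, fun e => e.1.ne_one hx, fun e => e.1.ne_one hx⟩
      rintro ⟨g, -, hg⟩
      exact hg (by subst hx; simp)
    by_cases hK : InK K x
    · have hn := (not_off_iff hx).mp hK
      refine Or.inr (Or.inl ⟨hx, hK, fun e => hn e.1, fun e => hn e.1, ?_⟩)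
      obtain ⟨g, hg, hg1⟩ := hK
      rw [← isClassFunction_of_isGen c.sΘ.1 x g]
      exact c.theta_K h (k := ⟨_, hg⟩) fun e => hg1 (congrArg Subtype.val e)
    · have hoff : Off K x := not_not.mp fun e => hK ((not_off_iff hx).mpr e)
      rcases off_cases h c hoff with ⟨e, -⟩ | ⟨e, -⟩
      · exact Or.inr (Or.inr (Or.inl ⟨hx, hK, ⟨hoff, e⟩, fun e' => by rw [e'.2] at e; norm_num at e⟩))
      · exact Or.inr (Or.inr (Or.inr ⟨hx, hK, fun e' => by rw [e'.2] at e; norm_num at e, ⟨hoff, e⟩⟩))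
  have hT : ∀ x : G, Θ x = (if x = 1 then (FF K j : ℂ) else 0) + (if InK K x then 1 else 0) -
      (if PTwo K Θ x then 1 else 0) := by
    intro x
    rcases htri x with ⟨e, a, b, d⟩ | ⟨e, a, b, d, v⟩ | ⟨e, a, b, d⟩ | ⟨e, a, b, d⟩
    · subst e; simp [a, d, c.deg]
    · simp [e, a, d, v]
    · simp [e, a, d, b.2]
    · simp [e, a, d, d.2]
  have hone : ∀ x : G, (1 : ℂ) = (if x = 1 then 1 else 0) + (if InK K x then 1 else 0) +
      (if POne K Θ x then 1 else 0) + (if PTwo K Θ x then 1 else 0) := by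
    intro x
    rcases htri x with ⟨e, a, b, d⟩ | ⟨e, a, b, d, -⟩ | ⟨e, a, b, d⟩ | ⟨e, a, b, d⟩
    · subst e; simp [a, b, d]
    all_goals simp [e, a, b, d]
  have hcard : ∀ (P : G → Prop) [DecidablePred P],
      ∑ x : G, (if P x then (1 : ℂ) else 0) = (Nat.card {x : G // P x} : ℂ) := by
    intro P _
    rw [← Finset.sum_filter, Finset.sum_const, nsmul_eq_mul, mul_one, ← Fintype.card_subtype,
      Nat.card_eq_fintype_card]
  have h1 := classInner_one_right Θ
  rw [c.inner_one.1, eq_comm, mul_eq_zero] at h1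
  have h1' := h1.resolve_left (inv_ne_zero card_ne_zero')
  rw [Finset.sum_congr rfl fun x _ => hT x, Finset.sum_sub_distrib, Finset.sum_add_distrib, hcard,
    hcard, Finset.sum_ite_eq'] at h1'
  have h2 : (Nat.card G : ℂ) = ∑ x : G, (1 : ℂ) := by simp [Nat.card_eq_fintype_card]
  rw [Finset.sum_congr rfl fun x _ => hone x, Finset.sum_add_distrib, Finset.sum_add_distrib,
    Finset.sum_add_distrib, hcard, hcard, hcard, hcard,
    show Nat.card {x : G // x = 1} = 1 from Nat.card_unique] at h2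
  simp only [Finset.mem_univ, if_true] at h1' h2
  have i1 : FF K j + (Nat.card {x : G // InK K x} : ℤ) - Nat.card {x : G // PTwo K Θ x} = 0 := by
    exact_mod_cast h1'
  have i2 : (Nat.card G : ℤ) = 1 + Nat.card {x : G // InK K x} + Nat.card {x : G // POne K Θ x} +
      Nat.card {x : G // PTwo K Θ x} := by exact_mod_cast h2
  have i3 := card_inK h
  rw [c.hm] at i3
  have i4 : (Nat.card G : ℤ) = 4 * nn K * (FF K j * NN K j) := by
    rw [h.card_eq]; push_cast; rw [c.hm]
  have hF := F_eq (K := K) j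
  constructor
  · have : FF K j ^ 2 = FF K j * (2 * NN K j - 1) := by rw [pow_two]; rw [← hF]
    linarith
  · linarith

theorem ff_values (h : Hyp t K s) (c : Core t K o Θ η₁ η₂ j) {x : G} :
    (PTwo K Θ x → ff G x = (rr K j : ℂ)) ∧
      (POne K Θ x → (j = 2 → ff G x = (qq K j : ℂ)) ∧ (j = -2 → ff G x = 0)) := by
  have hn : (4 * (nn K : ℂ)) ≠ 0 := four_nn_ne h
  constructor
  · intro hx
    have e := ff_off h c hx.1
    rw [hx.2] at e
    apply mul_left_cancel₀ hn
    rw [e]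
    rcases c.hj with rfl | rfl
    · have : (rr K 2 : ℂ) = (NN K 2 : ℂ) := by
        rw [rr, ← Int.cast_natCast, Int.natAbs_of_nonneg (by rw [NN]; positivity)]
      rw [this]; simp only [FF, NN]; push_cast; ring
    · have : (rr K (-2) : ℂ) = -(NN K (-2) : ℂ) := by
        rw [rr, ← Int.cast_natCast, Int.ofNat_natAbs_of_nonpos (by rw [NN]; have := nn_pos h; omega),
          Int.cast_neg]
      rw [this]; simp only [FF, NN]; push_cast; ring
  · intro hx
    have e := ff_off h c hx.1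
    rw [hx.2, mul_zero, add_zero] at e
    constructor
    · rintro rfl
      apply mul_left_cancel₀ hn
      rw [e]
      have : (qq K 2 : ℂ) = (FF K 2 : ℂ) := by
        rw [qq, ← Int.cast_natCast, Int.natAbs_of_nonneg (by rw [FF]; positivity)]
      rw [this]; simp only [FF, NN]; push_cast; ring
    · rintro rfl
      apply mul_left_cancel₀ hn
      rw [e]
      simp only [FF, NN]; push_cast; ring

/-- The structure of the normalizer of the centralizer of a strongly real element. -/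
theorem Hyp.normalizer_structure (h : Hyp t K s) {x u g : G} (hx : Off K x) (hu : IsInv u)
    (hinv : ∀ c ∈ cen x, u * c * u⁻¹ = c⁻¹) (hg : g * u * g⁻¹ = t)
    (hTI : ∀ y ∈ cen x, y ≠ 1 → Off K y ∧ cen y = cen x) :
    u ∈ Subgroup.normalizer (cen x : Set G) ∧
    (∀ e ∈ Subgroup.normalizer (cen x : Set G) ⊓ cen u, g * e * g⁻¹ ∈ K) ∧
    (∀ n ∈ Subgroup.normalizer (cen x : Set G), ∃ a ∈ cen x,
        a⁻¹ * n ∈ Subgroup.normalizer (cen x : Set G) ⊓ cen u) ∧
    Nat.card (Subgroup.normalizer (cen x : Set G)) =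
      Nat.card (cen x) * Nat.card (Subgroup.normalizer (cen x : Set G) ⊓ cen u : Subgroup G) := by
  set A := cen x
  set N := Subgroup.normalizer (A : Set G)
  have hcomm : ∀ a ∈ A, ∀ b ∈ A, a * b = b * a :=
    (h.inverts_cen hx hu (hinv x (self_mem_cen x))).2
  have hfix : ∀ a ∈ A, ∀ v : G, IsInv v → v * a = a * v → a = 1 := fun a ha v hv e =>
    by_contra fun ha1 => h.no_invol (hTI a ha ha1).1 hv e.symm
  have hsq : ∀ a ∈ A, a * a = 1 → a = 1 := fun a ha e =>
    by_contra fun ha1 => h.not_invol (hTI a ha ha1).1 ⟨ha1, e⟩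
  have huN : u ∈ N := by
    rw [Subgroup.mem_normalizer_iff]
    intro a
    refine ⟨fun ha => by rw [hinv a ha]; exact A.inv_mem ha, fun ha => ?_⟩
    have e := hinv _ ha
    have : u * (u * a * u⁻¹) * u⁻¹ = a := by
      calc _ = (u * u) * a * (u * u)⁻¹ := by group
        _ = a := by rw [hu.2]; group
    rw [this] at e
    rw [e]; exact A.inv_mem ha
  suffices decomp : ∀ n ∈ N, ∃ a ∈ A, a⁻¹ * n ∈ N ⊓ cen u by
    refine ⟨huN, ?_, decomp, ?_⟩
    · intro e he
      have hec : g * e * g⁻¹ ∈ cen t := by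
        rw [mem_cen, ← hg]
        calc g * e * g⁻¹ * (g * u * g⁻¹) = g * (e * u) * g⁻¹ := by group
          _ = g * (u * e) * g⁻¹ := by rw [mem_cen.mp he.2]
          _ = _ := by group
      by_contra heK
      have hei : IsInv e := by
        have := ((h.outside hec heK).1).conj g⁻¹
        simpa [mul_assoc] using this
      -- `e` inverts `x` as well
      set x' := e * x * e⁻¹ with hx'
      have hx'A : x' ∈ A := ((Subgroup.mem_normalizer_iff.mp he.1) x).mp (self_mem_cen x)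
      have hy : x * x' = 1 := by
        refine hfix _ (A.mul_mem (self_mem_cen x) hx'A) e hei ?_
        have e1 : e * x' = x * e := by
          rw [hx', hei.inv_eq]
          calc e * (e * x * e) = (e * e) * x * e := by group
            _ = x * e := by rw [hei.2, one_mul]
        have e2 : e * x = x' * e := by rw [hx', inv_mul_cancel_right]
        calc e * (x * x') = x' * (e * x') := by rw [← mul_assoc, e2, mul_assoc]
          _ = x' * x * e := by rw [e1, ← mul_assoc]
          _ = x * x' * e := by rw [hcomm _ hx'A _ (self_mem_cen x)]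
      have hxinv : e * x * e⁻¹ = x⁻¹ := eq_inv_of_mul_eq_one_right hy
      have hue : u * e ∈ A := by
        rw [mem_cen]
        have hux := hinv x (self_mem_cen x)
        calc u * e * x = u * (e * x * e⁻¹) * u⁻¹ * (u * e) := by group
          _ = u * x⁻¹ * u⁻¹ * (u * e) := by rw [hxinv]
          _ = (u * x * u⁻¹)⁻¹ * (u * e) := by rw [conj_inv]
          _ = x * (u * e) := by rw [hux, inv_inv]
      have h1 : u * e = 1 := hsq _ hue (by
        calc u * e * (u * e) = u * (e * u) * e := by group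
          _ = u * (u * e) * e := by rw [mem_cen.mp he.2]
          _ = (u * u) * (e * e) := by group
          _ = 1 := by rw [hu.2, hei.2, one_mul])
      have : e = u := by rw [← inv_eq_of_mul_eq_one_right h1, hu.inv_eq]
      rw [this, hg] at heK
      exact heK h.t_mem
    · set E := N ⊓ cen u
      rw [← Nat.card_prod]
      refine (Nat.card_eq_of_bijective
        (fun p => (⟨(p.1 : G) * p.2, N.mul_mem (Subgroup.le_normalizer p.1.2) p.2.2.1⟩ : N)) ⟨?_, ?_⟩).symm
      · rintro ⟨a, e⟩ ⟨b, f⟩ heq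
        have hmul : (a : G) * e = b * f := congrArg Subtype.val heq
        have h1 : (b : G)⁻¹ * a = f * (e : G)⁻¹ := by
          calc (b : G)⁻¹ * a = (b : G)⁻¹ * (a * e) * (e : G)⁻¹ := by group
            _ = _ := by rw [hmul]; group
        have hab : (b : G)⁻¹ * a = 1 := by
          refine hfix _ (A.mul_mem (A.inv_mem b.2) a.2) u hu ?_
          have : (f : G) * (e : G)⁻¹ ∈ cen u := (cen u).mul_mem f.2.2 ((cen u).inv_mem e.2.2)
          rw [h1]; exact (mem_cen.mp this).symm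
        have hab' : (a : G) = b := (inv_mul_eq_one.mp hab).symm
        rw [hab'] at hmul
        exact Prod.ext (Subtype.ext hab') (Subtype.ext (mul_left_cancel hmul))
      · intro n
        obtain ⟨a, ha, he⟩ : ∃ a ∈ A, a⁻¹ * (n : G) ∈ E := decomp n n.2
        exact ⟨(⟨a, ha⟩, ⟨_, he⟩), Subtype.ext (by simp)⟩
  intro n hn
  set u' := n * u * n⁻¹ with hu'
  have hu'i : IsInv u' := hu.conj n
  have hu'x : u' * x * u'⁻¹ = x⁻¹ := by
    have hb : n⁻¹ * x * n⁻¹⁻¹ ∈ A :=
      ((Subgroup.mem_normalizer_iff.mp (N.inv_mem hn)) x).mp (self_mem_cen x)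
    have e := hinv _ hb
    calc u' * x * u'⁻¹ = n * (u * (n⁻¹ * x * n⁻¹⁻¹) * u⁻¹) * n⁻¹ := by rw [hu']; group
      _ = x⁻¹ := by rw [e]; group
  have hc : u * u' ∈ A := by
    rw [mem_cen]
    have hux := hinv x (self_mem_cen x)
    calc u * u' * x = u * (u' * x * u'⁻¹) * u⁻¹ * (u * u') := by group
      _ = u * x⁻¹ * u⁻¹ * (u * u') := by rw [hu'x]
      _ = (u * x * u⁻¹)⁻¹ * (u * u') := by rw [conj_inv]
      _ = x * (u * u') := by rw [hux, inv_inv]
  set cc := u * u' with hcc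
  have hodd : Odd (orderOf cc) := by
    have hd : orderOf (⟨cc, hc⟩ : A) ∣ Nat.card A := orderOf_dvd_natCard _
    rw [Subgroup.orderOf_mk] at hd
    exact Odd.of_dvd_nat (h.odd_cen hx) hd
  obtain ⟨k, hk⟩ := hodd
  set a := (cc ^ (k + 1))⁻¹ with ha
  have haA : a ∈ A := A.inv_mem (A.pow_mem hc _)
  refine ⟨a, haA, N.mul_mem (Subgroup.le_normalizer (A.inv_mem haA)) hn, ?_⟩
  -- `a u a⁻¹ = u'`
  have hau : a * u * a⁻¹ = u' := by
    have h2 : a⁻¹ * a⁻¹ = cc := by
      rw [ha, inv_inv, ← pow_add, show k + 1 + (k + 1) = orderOf cc + 1 by omega, pow_succ,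
        pow_orderOf_eq_one, one_mul]
    have e := hinv a haA
    calc a * u * a⁻¹ = u * (u * a * u⁻¹) * a⁻¹ := by
          rw [hu.inv_eq]
          calc a * u * a⁻¹ = (u * u) * a * u * a⁻¹ := by rw [hu.2, one_mul]
            _ = _ := by group
      _ = u * (a⁻¹ * a⁻¹) := by rw [e, mul_assoc]
      _ = u' := by rw [h2, hcc, ← mul_assoc, hu.2, one_mul]
  show a⁻¹ * n ∈ cen u
  rw [mem_cen]
  calc a⁻¹ * n * u = a⁻¹ * (n * u * n⁻¹) * n := by group
    _ = a⁻¹ * (a * u * a⁻¹) * n := by rw [← hu', hau]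
    _ = _ := by group

end CfsgLib.InvolChar.BSW
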