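import Cfsg.Agent.Lib.Char.Generalized
import Cfsg.Agent.Lib.Char.Integral

/-!
# Signed irreducible characters and small norms
-/

namespace CfsgLib.InvolChar.BSW

open scoped ComplexConjugate
open CfsgLib.Char

variable {G : Type*} [Group G] [Fintype G]

/-- A generalized character of norm one. -/
def IsSigned (X : G → ℂ) : Prop :=
  Cfsg.IsGeneralizedCharacter G X ∧ Cfsg.classInner X X = 1

theorem inner_self_real (f : G → ℂ) : ∃ r : ℝ, 0 ≤ r ∧ Cfsg.classInner f f = r := by
  refine ⟨(Nat.card G : ℝ)⁻¹ * ∑ g : G, Complex.normSq (f g),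
    mul_nonneg (inv_nonneg.mpr (Nat.cast_nonneg _)) (Finset.sum_nonneg fun g _ => Complex.normSq_nonneg _), ?_⟩
  rw [classInner_def]
  push_cast
  congr 1
  exact Finset.sum_congr rfl fun g _ => Complex.mul_conj (f g)

theorem IsSigned.neg {X : G → ℂ} (h : IsSigned X) : IsSigned (-X) :=
  ⟨isGen_neg h.1, by rw [classInner_neg_left, classInner_neg_right, neg_neg, h.2]⟩

theorem IsSigned.cases {X : G → ℂ} (h : IsSigned X) :
    ∃ χ : G → ℂ, Cfsg.IsIrrCharacter G χ ∧ (X = χ ∨ X = -χ) := by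
  rcases gen_norm_one h.1 h.2 with h' | h'
  · exact ⟨X, h', Or.inl rfl⟩
  · exact ⟨-X, h', Or.inr (neg_neg X).symm⟩

theorem isSigned_of_irr {χ : G → ℂ} (h : Cfsg.IsIrrCharacter G χ) : IsSigned χ :=
  ⟨isGen_of_irr h, classInner_irr_self h⟩

theorem isSigned_one : IsSigned (fun _ : G => (1 : ℂ)) :=
  isSigned_of_irr isIrrCharacter_one

theorem IsSigned.eq_or_neg {X Y : G → ℂ} (hX : IsSigned X) (hY : IsSigned Y)
    (h : Cfsg.classInner X Y ≠ 0) : X = Y ∨ X = -Y := by
  obtain ⟨χ, hχ, e⟩ := hX.cases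
  obtain ⟨ξ, hξ, e'⟩ := hY.cases
  have hne : χ = ξ := by
    by_contra hne
    have h0 := classInner_irr_ne hχ hξ hne
    refine h ?_
    rcases e with rfl | rfl <;> rcases e' with rfl | rfl <;>
      simp [classInner_neg_left, classInner_neg_right, h0]
  subst hne
  rcases e with rfl | rfl <;> rcases e' with rfl | rfl <;> simp

theorem IsSigned.degree {X : G → ℂ} (hX : IsSigned X) :
    ∃ e : ℤ, e ≠ 0 ∧ X 1 = e ∧ e.natAbs ∣ Nat.card G := by
  obtain ⟨χ, hχ, e⟩ := hX.cases
  obtain ⟨d, hd0, hd⟩ := exists_degree_pos hχ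
  have hdvd := degree_dvd_card hχ hd
  rcases e with rfl | rfl
  · exact ⟨d, by exact_mod_cast hd0.ne', by exact_mod_cast hd, by simpa using hdvd⟩
  · exact ⟨-(d : ℤ), by simpa using hd0.ne', by simp [hd], by simpa using hdvd⟩

theorem eq_zero_of_norm {f : G → ℂ} (h : Cfsg.classInner f f = 0) : f = 0 :=
  eq_zero_of_classInner_self_eq_zero h

/-- Bessel's inequality for two orthonormal vectors. -/
theorem bessel_two {B X Y : G → ℂ} (hX : Cfsg.classInner X X = 1) (hY : Cfsg.classInner Y Y = 1)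
    (hXY : Cfsg.classInner X Y = 0) {a b k : ℤ} (ha : Cfsg.classInner B X = a)
    (hb : Cfsg.classInner B Y = b) (hk : Cfsg.classInner B B = k) :
    a ^ 2 + b ^ 2 ≤ k ∧ (a ^ 2 + b ^ 2 = k → B = (a : ℂ) • X + (b : ℂ) • Y) := by
  have hYX : Cfsg.classInner Y X = 0 := by rw [← classInner_conj_symm, hXY, map_zero]
  have hXB : Cfsg.classInner X B = a := by rw [← classInner_conj_symm, ha, map_intCast]
  have hYB : Cfsg.classInner Y B = b := by rw [← classInner_conj_symm, hb, map_intCast]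
  set C := B - ((a : ℂ) • X + (b : ℂ) • Y) with hC
  have hn : Cfsg.classInner C C = ((k - (a ^ 2 + b ^ 2) : ℤ) : ℂ) := by
    simp only [hC, classInner_sub_left, classInner_sub_right, classInner_add_left,
      classInner_add_right, classInner_smul_left, classInner_smul_right, map_intCast, hX, hY, hXY,
      hYX, hXB, hYB, ha, hb, hk]
    push_cast
    ring
  obtain ⟨r, hr, hr'⟩ := inner_self_real C
  rw [hn] at hr'
  have h1 : ((k - (a ^ 2 + b ^ 2) : ℤ) : ℝ) = r := by exact_mod_cast hr'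
  have h2 : 0 ≤ k - (a ^ 2 + b ^ 2) := by
    have : (0 : ℝ) ≤ ((k - (a ^ 2 + b ^ 2) : ℤ) : ℝ) := h1 ▸ hr
    exact_mod_cast this
  refine ⟨by linarith, fun e => ?_⟩
  have : C = 0 := eq_zero_of_norm (by rw [hn, e]; simp)
  exact sub_eq_zero.mp this

/-- Bessel's inequality for three orthonormal vectors. -/
theorem bessel_three {B X Y Z : G → ℂ} (hX : Cfsg.classInner X X = 1)
    (hY : Cfsg.classInner Y Y = 1) (hZ : Cfsg.classInner Z Z = 1)
    (hXY : Cfsg.classInner X Y = 0) (hXZ : Cfsg.classInner X Z = 0)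
    (hYZ : Cfsg.classInner Y Z = 0) {a b c k : ℤ} (ha : Cfsg.classInner B X = a)
    (hb : Cfsg.classInner B Y = b) (hc : Cfsg.classInner B Z = c)
    (hk : Cfsg.classInner B B = k) :
    a ^ 2 + b ^ 2 + c ^ 2 ≤ k ∧
      (a ^ 2 + b ^ 2 + c ^ 2 = k → B = (a : ℂ) • X + (b : ℂ) • Y + (c : ℂ) • Z) := by
  set B' := B - (c : ℂ) • Z with hB'
  have hZX : Cfsg.classInner Z X = 0 := by rw [← classInner_conj_symm, hXZ, map_zero]
  have hZY : Cfsg.classInner Z Y = 0 := by rw [← classInner_conj_symm, hYZ, map_zero]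
  have hZB : Cfsg.classInner Z B = c := by rw [← classInner_conj_symm, hc, map_intCast]
  have h := bessel_two (B := B') hX hY hXY (a := a) (b := b) (k := k - c ^ 2)
    (by simp [hB', classInner_sub_left, classInner_smul_left, ha, hZX])
    (by simp [hB', classInner_sub_left, classInner_smul_left, hb, hZY])
    (by
      simp only [hB', classInner_sub_left, classInner_sub_right, classInner_smul_left,
        classInner_smul_right, map_intCast, hk, hc, hZB, hZ]
      push_cast
      ring)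
  refine ⟨by linarith [h.1], fun e => ?_⟩
  have := h.2 (by linarith)
  rw [← sub_add_cancel B ((c : ℂ) • Z), ← hB', this]

/-- A generalized character of norm at most three has a constituent of multiplicity one. -/
theorem peel {B : G → ℂ} (hB : Cfsg.IsGeneralizedCharacter G B) {k : ℤ} (hk0 : 0 < k) (hk : k ≤ 3)
    (hn : Cfsg.classInner B B = k) :
    ∃ X, IsSigned X ∧ Cfsg.classInner B X = 1 ∧ Cfsg.IsGeneralizedCharacter G (B - X) ∧
      Cfsg.classInner (B - X) (B - X) = ((k - 1 : ℤ) : ℂ) ∧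
      Cfsg.classInner X (B - X) = 0 := by
  classical
  obtain ⟨m, hm, hmi, hsq⟩ := gen_decomp hB
  rw [hn] at hsq
  have hsq' : k = ∑ χ, m χ ^ 2 := by exact_mod_cast hsq
  obtain ⟨χ, hχ⟩ : ∃ χ, m χ ≠ 0 := by
    by_contra hall
    push Not at hall
    simp [hall] at hsq'
    omega
  have hle : m χ ^ 2 ≤ 3 :=
    le_trans (Finset.single_le_sum (f := fun χ => m χ ^ 2) (fun _ _ => sq_nonneg _)
      (Finset.mem_univ χ)) (hsq' ▸ hk)
  have hm1 : m χ = 1 ∨ m χ = -1 := by
    have : -2 < m χ ∧ m χ < 2 := by constructor <;> nlinarith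
    omega
  set X : G → ℂ := (m χ : ℂ) • (χ : G → ℂ) with hXdef
  have hX : IsSigned X := by
    rcases hm1 with e | e <;> simp only [hXdef, e, Int.cast_one, Int.cast_neg, one_smul, neg_smul]
    · exact isSigned_of_irr χ.2
    · exact (isSigned_of_irr χ.2).neg
  have hBX : Cfsg.classInner B X = 1 := by
    rw [hXdef, classInner_smul_right, hmi χ, map_intCast]
    rcases hm1 with e | e <;> simp [e]
  have hXB : Cfsg.classInner X B = 1 := by rw [← classInner_conj_symm, hBX, map_one]
  refine ⟨X, hX, hBX, isGen_sub hB hX.1, ?_, ?_⟩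
  · simp only [classInner_sub_left, classInner_sub_right, hn, hBX, hXB, hX.2]
    push_cast
    ring
  · rw [classInner_sub_right, hXB, hX.2, sub_self]

end CfsgLib.InvolChar.BSW
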