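import Cfsg.Agent.Lib.InvolChar.BSW.Setup
import Cfsg.Agent.Lib.InvolChar.BSW.Signed
import Cfsg.Agent.Lib.Char.Induced
import Cfsg.Agent.Lib.Char.ClassAlgebra
import Cfsg.Agent.Lib.Char.Linear

/-!
# Brauer-Suzuki-Wall: the functions induced from `K`, and the class multiplication identity
-/

namespace CfsgLib.InvolChar.BSW

open scoped ComplexConjugate
open CfsgLib.Char

variable {G : Type*} [Group G] {t : G} {K : Subgroup G} {s : G}

/-- `K` as an abelian group. -/
@[reducible] def Hyp.commGroup (h : Hyp t K s) : CommGroup K :=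
  { (inferInstance : Group K) with
    mul_comm := fun a b => Subtype.ext (h.comm a a.2 b b.2) }

/-- The linear characters of `K`. -/
abbrev Lam (K : Subgroup G) := K →* ℂˣ

/-- A linear character as a function. -/
def lam (a : Lam K) : K → ℂ := fun x => (a x : ℂ)

theorem conj_lam [Finite G] (a : Lam K) (x : K) : conj (lam a x) = lam a x⁻¹ := by
  have hn : lam a x ^ orderOf x = 1 := by
    simp only [lam, ← Units.val_pow_eq_pow_val, ← map_pow, pow_orderOf_eq_one, map_one, Units.val_one]
  rw [← Complex.inv_eq_conj (Complex.norm_eq_one_of_pow_eq_one hn (orderOf_pos x).ne')]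
  simp [lam]

variable [Fintype G]

omit [Fintype G] in
theorem sum_lam (a : Lam K) [Fintype K] [DecidableEq (Lam K)] :
    ∑ x : K, lam a x = if a = 1 then (Nat.card K : ℂ) else 0 := by
  split_ifs with ha
  · simp [ha, lam]
  · obtain ⟨b, hb⟩ : ∃ b, a b ≠ 1 := by
      by_contra hne
      push Not at hne
      exact ha (MonoidHom.ext hne)
    have e : (a b : ℂ) * ∑ x, lam a x = ∑ x, lam a x := by
      rw [Finset.mul_sum]
      exact Fintype.sum_equiv (Equiv.mulLeft b) _ _ fun x => by simp [lam]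
    rcases eq_or_ne (∑ x, lam a x) 0 with h0 | h0
    · exact h0
    · exact absurd (Units.ext (mul_eq_right₀ h0 |>.mp e)) hb

theorem finite_lam (h : Hyp t K s) : Finite (Lam K) := by
  let _ := h.commGroup
  exact Finite.of_equiv K
    (Classical.choice (CommGroup.monoidHom_mulEquiv_of_hasEnoughRootsOfUnity K ℂ)).symm.toEquiv

theorem card_lam (h : Hyp t K s) : Nat.card (Lam K) = Nat.card K := by
  let _ := h.commGroup
  exact Nat.card_congr
    (Classical.choice (CommGroup.monoidHom_mulEquiv_of_hasEnoughRootsOfUnity K ℂ)).toEquiv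

/-- Exactly one nontrivial linear character squares to one. -/
theorem exists_lam_zero (h : Hyp t K s) :
    ∃ o : Lam K, o ≠ 1 ∧ o * o = 1 ∧ ∀ a : Lam K, a * a = 1 → a = 1 ∨ a = o := by
  let _ := h.commGroup
  let e := Classical.choice (CommGroup.monoidHom_mulEquiv_of_hasEnoughRootsOfUnity K ℂ)
  refine ⟨e.symm ⟨t, h.t_mem⟩, fun e1 => ?_, ?_, fun a ha => ?_⟩
  · have := congrArg e e1
    rw [MulEquiv.apply_symm_apply, map_one] at this
    exact h.t_ne_one (congrArg Subtype.val this)
  · rw [← map_mul]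
    rw [show (⟨t, h.t_mem⟩ : K) * ⟨t, h.t_mem⟩ = 1 from Subtype.ext h.invol_t.2, map_one]
  · have h2 : e a * e a = 1 := by rw [← map_mul, ha, map_one]
    rcases h.eq_of_sq (e a).2 (congrArg Subtype.val h2) with h' | h'
    · exact Or.inl (e.injective (by rw [map_one]; exact Subtype.ext h'))
    · exact Or.inr (e.injective (by rw [MulEquiv.apply_symm_apply]; exact Subtype.ext h'))

theorem sum_all_lam (h : Hyp t K s) [Fintype (Lam K)] (x : K) (hx : x ≠ 1) :
    ∑ a : Lam K, lam a x = 0 := by
  let _ := h.commGroup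
  obtain ⟨b, hb⟩ := CommGroup.exists_apply_ne_one_of_hasEnoughRootsOfUnity K ℂ hx
  have e : (b x : ℂ) * ∑ a : Lam K, lam a x = ∑ a : Lam K, lam a x := by
    rw [Finset.mul_sum]
    exact Fintype.sum_equiv (Equiv.mulLeft b) _ _ fun a => by simp [lam]
  rcases eq_or_ne (∑ a : Lam K, lam a x) 0 with h0 | h0
  · exact h0
  · exact absurd (Units.ext (mul_eq_right₀ h0 |>.mp e)) hb

theorem inner_lam [Fintype K] (a b : Lam K) [Decidable (a = b)] :
    Cfsg.classInner (lam a) (lam b) = if a = b then 1 else 0 := by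
  classical
  have hterm : ∀ x : K, lam a x * conj (lam b x) = lam (a * b⁻¹) x := fun x => by
    rw [conj_lam]; simp [lam]
  rw [classInner_def, Finset.sum_congr rfl fun x _ => hterm x, sum_lam]
  by_cases hab : a = b
  · subst hab
    have e1 : a * a⁻¹ = 1 := MonoidHom.ext fun x => by simp
    rw [if_pos rfl, if_pos e1, inv_mul_cancel₀ (card_subgroup_ne_zero K)]
  · rw [if_neg hab, if_neg (fun e => hab (mul_inv_eq_one.mp e)), mul_zero]

/-- Expansion of a function on `K`. -/
theorem lam_expansion (h : Hyp t K s) [Fintype K] [Fintype (Lam K)] (φ : K → ℂ) (x : K) :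
    φ x = ∑ a : Lam K, Cfsg.classInner φ (lam a) * lam a x := by
  classical
  have hc : Nat.card (Lam K) = Nat.card K := card_lam h
  have key : ∀ y : K, ∑ a : Lam K, conj (lam a y) * lam a x = if y = x then (Nat.card K : ℂ) else 0 := by
    intro y
    have hterm : ∀ a : Lam K, conj (lam a y) * lam a x = lam a (y⁻¹ * x) := fun a => by
      rw [conj_lam]; simp [lam]
    rw [Finset.sum_congr rfl fun a _ => hterm a]
    split_ifs with hy
    · subst hy
      simp [lam]
      simpa [Nat.card_eq_fintype_card] using hc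
    · exact sum_all_lam h _ fun e => hy (inv_mul_eq_one.mp e)
  simp only [classInner_def, Finset.mul_sum, Finset.sum_mul]
  rw [Finset.sum_comm]
  simp only [mul_assoc, ← Finset.mul_sum, key]
  have hK : (Nat.card K : ℂ) ≠ 0 := card_subgroup_ne_zero K
  simp only [mul_ite, mul_zero, Finset.sum_ite_eq', Finset.mem_univ, if_true]
  field_simp

variable (K) in
/-- The function induced from `1 - a`. -/
noncomputable def AA (a : Lam K) : G → ℂ := Cfsg.indFun K (fun x => 1 - lam a x)

/-- Induced functions on `K`. -/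
theorem ind_res (h : Hyp t K s) (φ : K → ℂ) (h0 : φ 1 = 0) (k : K) :
    Cfsg.indFun K φ k = φ k + φ k⁻¹ := by
  classical
  let _ := Fintype.ofFinite K
  by_cases hk : k = 1
  · subst hk
    rw [OneMemClass.coe_one, indFun_one, h0, inv_one, h0, mul_zero, add_zero]
  have hk' : (k : G) ≠ 1 := fun e => hk (Subtype.ext e)
  have hval : ∀ x : G, Cfsg.extendByZero K φ (x⁻¹ * k * x) =
      (if x ∈ K then φ k else 0) + (if x ∈ cen t ∧ x ∉ K then φ k⁻¹ else 0) := by
    intro x
    by_cases hxc : x ∈ cen t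
    · rcases h.fusion ((cen t).inv_mem hxc) k.2 with ⟨hxK, e⟩ | ⟨hxK, e⟩
      · rw [inv_inv] at e
        rw [inv_mem_iff] at hxK
        simp [e, hxK, extendByZero_coe]
      · rw [inv_inv] at e
        rw [inv_mem_iff] at hxK
        rw [if_neg hxK, if_pos ⟨hxc, hxK⟩, zero_add, e]
        exact extendByZero_of_mem φ (K.inv_mem k.2)
    · have hxK : x ∉ K := fun e => hxc (h.le_cen e)
      rw [if_neg hxK, if_neg (fun e => hxc e.1), add_zero]
      refine extendByZero_of_notMem _ fun hm => hxc ?_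
      have := h.mem_cen_of_conj_mem (g := x⁻¹) k.2 hk' (by rwa [inv_inv])
      simpa using (cen t).inv_mem this
  rw [indFun_apply, Finset.sum_congr rfl fun x _ => hval x, Finset.sum_add_distrib,
    ← Finset.sum_filter, ← Finset.sum_filter, Finset.sum_const, Finset.sum_const, nsmul_eq_mul,
    nsmul_eq_mul]
  have e1 : (Finset.univ.filter fun x : G => x ∈ K).card = Nat.card K := by
    rw [← Fintype.card_subtype, ← Nat.card_eq_fintype_card]
  have e2 : (Finset.univ.filter fun x : G => x ∈ cen t ∧ x ∉ K).card = Nat.card K := by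
    rw [← Fintype.card_subtype, ← Nat.card_eq_fintype_card]
    exact (Nat.card_congr h.outsideEquiv).symm
  rw [e1, e2]
  field_simp [card_subgroup_ne_zero K]

theorem AA_res (h : Hyp t K s) (a : Lam K) (k : K) :
    AA K a k = 2 - lam a k - lam a⁻¹ k := by
  rw [AA, ind_res h _ (by simp [lam])]
  simp [lam]
  ring

theorem AA_one (a : Lam K) : AA K a 1 = 0 := by rw [AA, indFun_one]; simp [lam]

omit [Fintype G] in
theorem res_even (h : Hyp t K s) {χ : G → ℂ} (hχ : Cfsg.IsClassFunction G χ) (k : K) :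
    χ ((k⁻¹ : K) : G) = χ k := by
  rw [Subgroup.coe_inv, ← h.inverts k k.2]
  exact hχ k s

/-- The inner product with an induced function. -/
noncomputable def dd (χ : G → ℂ) (a : Lam K) : ℂ := Cfsg.classInner χ (AA K a)

/-- The multiplicities on `K`. -/
noncomputable def cf [Fintype K] (χ : G → ℂ) (a : Lam K) : ℂ :=
  Cfsg.classInner (fun k : K => χ k) (lam a)

theorem dd_eq [Fintype K] {χ : G → ℂ} (hχ : Cfsg.IsClassFunction G χ) (a : Lam K) :
    dd χ a = cf χ (1 : Lam K) - cf χ a := by
  rw [dd, AA, frobenius_reciprocity' K _ hχ, cf, cf, ← classInner_sub_right]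
  congr 1

omit [Fintype G] in
theorem cf_inv (h : Hyp t K s) [Fintype K] {χ : G → ℂ} (hχ : Cfsg.IsClassFunction G χ) (a : Lam K) :
    cf χ a⁻¹ = cf χ a := by
  simp only [cf, classInner_def]
  congr 1
  refine Fintype.sum_equiv (Equiv.inv K) _ _ fun x => ?_
  rw [Equiv.inv_apply, res_even h hχ]
  simp [lam]

theorem dd_inv (h : Hyp t K s) {χ : G → ℂ} (hχ : Cfsg.IsClassFunction G χ) (a : Lam K) :
    dd χ a⁻¹ = dd χ a := by
  let _ := Fintype.ofFinite K
  rw [dd_eq hχ, dd_eq hχ, cf_inv h hχ]

theorem dd_one_arg {χ : G → ℂ} (hχ : Cfsg.IsClassFunction G χ) : dd χ (1 : Lam K) = 0 := by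
  let _ := Fintype.ofFinite K
  rw [dd_eq hχ, sub_self]

theorem isClassFunction_AA (a : Lam K) : Cfsg.IsClassFunction G (AA K a) :=
  isClassFunction_indFun K _

theorem AA_inv (h : Hyp t K s) (a : Lam K) : AA K a⁻¹ = AA K a := by
  refine classFun_ext (isClassFunction_AA _) (isClassFunction_AA _) fun χ hχ => ?_
  have := dd_inv h (isClassFunction_of_isIrr hχ) a
  simp only [dd] at this
  rw [← classInner_conj_symm, this, classInner_conj_symm]

theorem gram (h : Hyp t K s) [DecidableEq (Lam K)] {a b : Lam K} (ha : a ≠ 1) (hb : b ≠ 1) :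
    Cfsg.classInner (AA K a) (AA K b) =
      2 + (if a = b then 1 else 0) + (if a⁻¹ = b then 1 else 0) := by
  let _ := Fintype.ofFinite K
  have hres : (fun k : K => AA K a k) = (2 : ℂ) • lam (1 : Lam K) - lam a - lam a⁻¹ := by
    funext k
    rw [AA_res h]
    simp [lam]
  have hc : ∀ c : Lam K, cf (AA K a) c =
      (if (1 : Lam K) = c then 2 else 0) - (if a = c then 1 else 0) - (if a⁻¹ = c then 1 else 0) := by
    intro c
    rw [cf, hres, classInner_sub_left, classInner_sub_left, classInner_smul_left, inner_lam,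
      inner_lam, inner_lam, mul_ite, mul_one, mul_zero]
  have := dd_eq (isClassFunction_AA (K := K) a) b
  rw [dd] at this
  rw [this, hc, hc, if_pos rfl, if_neg ha, if_neg (Ne.symm hb)]
  have hai : ¬ a⁻¹ = 1 := fun e => ha (MonoidHom.ext fun x => inv_eq_one.mp (DFunLike.congr_fun e x))
  simp [hai]
  ring

/-- The values on `K` of a class function orthogonal decomposed along the `AA`. -/
theorem value (h : Hyp t K s) [Fintype (Lam K)] {χ : G → ℂ} (hχ : Cfsg.IsClassFunction G χ)
    {k : K} (hk : k ≠ 1) : χ k = -∑ a : Lam K, dd χ a * lam a k := by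
  let _ := Fintype.ofFinite K
  rw [Finset.sum_congr rfl fun a _ => by rw [dd_eq hχ, sub_mul]]
  rw [Finset.sum_sub_distrib, ← Finset.mul_sum, sum_all_lam h k hk, mul_zero, zero_sub, neg_neg]
  exact lam_expansion h (fun k : K => χ k) k

theorem dd_const (a : Lam K) (ha : a ≠ 1) : dd (fun _ : G => (1 : ℂ)) a = 1 := by
  classical
  let _ := Fintype.ofFinite K
  rw [dd_eq (isClassFunction_const 1)]
  have e : (fun _ : K => (1 : ℂ)) = lam (1 : Lam K) := by funext k; simp [lam]
  simp only [cf, e, inner_lam, if_true]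
  rw [if_neg (Ne.symm ha), sub_zero]

/-- The number of ways to write an element as a product of two involutions. -/
noncomputable def ff (G : Type*) [Group G] (g : G) : ℂ :=
  (Nat.card {u : G // IsInv u ∧ IsInv (u * g)} : ℂ)

theorem ff_formula (h : Hyp t K s) (g : G) :
    ff G g = (mm G : ℂ) / (4 * nn K) *
      ∑ χ : Cfsg.IrrCharacter G, (χ : G → ℂ) t * (χ : G → ℂ) t * (χ : G → ℂ) g / (χ : G → ℂ) 1 := by
  have e : {p : G × G // IsConj t p.1 ∧ IsConj t p.2 ∧ p.1 * p.2 = g} ≃
      {u : G // IsInv u ∧ IsInv (u * g)} :=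
    { toFun := fun p => ⟨p.1.1, by
        have hI : ∀ {v : G}, IsConj t v → IsInv v := fun {v} hv => by
          obtain ⟨c, rfl⟩ := isConj_iff.mp hv
          exact h.invol_t.conj c
        have h1 := hI p.2.1
        refine ⟨h1, ?_⟩
        rw [show p.1.1 * g = p.1.2 by
          rw [show p.1.1 * g = p.1.1 * (p.1.1 * p.1.2) from congrArg _ p.2.2.2.symm, ← mul_assoc,
            h1.2, one_mul]]
        exact hI p.2.2.1⟩
      invFun := fun u => ⟨(u.1, u.1 * g), h.conj _ _ h.invol_t u.2.1, h.conj _ _ h.invol_t u.2.2,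
        by rw [← mul_assoc, u.2.1.2, one_mul]⟩
      left_inv := fun p => by
        have hI : IsInv p.1.1 := by
          obtain ⟨c, hc⟩ := isConj_iff.mp p.2.1
          exact hc ▸ h.invol_t.conj c
        refine Subtype.ext (Prod.ext rfl ?_)
        show p.1.1 * g = p.1.2
        rw [show p.1.1 * g = p.1.1 * (p.1.1 * p.1.2) from congrArg _ p.2.2.2.symm, ← mul_assoc,
          hI.2, one_mul]
      right_inv := fun u => rfl }
  have hcc := card_classProduct_eq t t g
  rw [Nat.card_congr e, ← h.mm_eq, h.card_eq] at hcc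
  have hm : (mm G : ℂ) ≠ 0 := by
    exact_mod_cast (Nat.pos_of_ne_zero fun e0 => by
      have := h.odd_mm; rw [e0] at this; simp at this).ne'
  have hn : (nn K : ℂ) ≠ 0 := by exact_mod_cast (nn_pos h).ne'
  have hconj := congrArg conj hcc
  rw [map_natCast] at hconj
  rw [ff, hconj, map_mul, map_div₀, map_mul, map_natCast, map_natCast, map_sum]
  have hsum : ∀ χ : Cfsg.IrrCharacter G,
      conj ((χ : G → ℂ) t * (χ : G → ℂ) t * conj ((χ : G → ℂ) g) / (χ : G → ℂ) 1) =
        (χ : G → ℂ) t * (χ : G → ℂ) t * (χ : G → ℂ) g / (χ : G → ℂ) 1 := by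
    intro χ
    have hti : conj ((χ : G → ℂ) t) = (χ : G → ℂ) t := by
      rw [← gen_inv (isGen_of_irr χ.2), h.invol_t.inv_eq]
    obtain ⟨d, -, hd⟩ := exists_degree_pos χ.2
    simp [hti, hd]
  simp only [hsum]
  push_cast
  field_simp

theorem isClassFunction_ff (h : Hyp t K s) : Cfsg.IsClassFunction G (ff G) := fun g c => by
  rw [ff_formula h, ff_formula h]
  congr 1
  exact Finset.sum_congr rfl fun χ _ => by rw [isClassFunction_of_isIrr χ.2 g c]

theorem inner_ff_irr (h : Hyp t K s) {χ : G → ℂ} (hχ : Cfsg.IsIrrCharacter G χ) :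
    Cfsg.classInner (ff G) χ = (mm G : ℂ) / (4 * nn K) * (χ t * χ t / χ 1) := by
  classical
  have e : ff G = ∑ ξ : Cfsg.IrrCharacter G,
      ((mm G : ℂ) / (4 * nn K) * ((ξ : G → ℂ) t * (ξ : G → ℂ) t / (ξ : G → ℂ) 1)) • (ξ : G → ℂ) := by
    funext g
    rw [ff_formula h, Finset.mul_sum, Finset.sum_apply]
    exact Finset.sum_congr rfl fun ξ _ => by rw [Pi.smul_apply, smul_eq_mul]; ring
  rw [e, classInner_sum_left, Finset.sum_eq_single (⟨χ, hχ⟩ : Cfsg.IrrCharacter G)]
  · rw [classInner_smul_left, classInner_irr_self hχ, mul_one]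
  · intro ξ _ hne
    rw [classInner_smul_left, classInner_irr_ne ξ.2 hχ fun e => hne (Subtype.ext e), mul_zero]
  · simp

theorem inner_ff (h : Hyp t K s) {X : G → ℂ} (hX : IsSigned X) :
    Cfsg.classInner (ff G) X = (mm G : ℂ) / (4 * nn K) * (X t * X t / X 1) := by
  obtain ⟨χ, hχ, rfl | rfl⟩ := hX.cases
  · exact inner_ff_irr h hχ
  · rw [classInner_neg_right, inner_ff_irr h hχ]
    simp [div_neg]

theorem inner_ff_AA (h : Hyp t K s) {a : Lam K} (ha : a ≠ 1) :
    Cfsg.classInner (ff G) (AA K a) = 2 * nn K := by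
  classical
  let _ := Fintype.ofFinite K
  rw [AA, frobenius_reciprocity' K _ (isClassFunction_ff h), classInner_def]
  have hterm : ∀ x : K, ff G x * conj (1 - lam a x) = (2 * nn K : ℂ) * (1 - lam a x⁻¹) := by
    intro x
    rw [map_sub, map_one, conj_lam]
    by_cases hx : x = 1
    · subst hx; simp [lam]
    · rw [ff, h.card_inverting x.2 fun e => hx (Subtype.ext e)]
      push_cast
      ring
  rw [Finset.sum_congr rfl fun x _ => hterm x, ← Finset.mul_sum, Finset.sum_sub_distrib]
  rw [Fintype.sum_equiv (Equiv.inv K) (fun x => lam a x⁻¹) (lam a) fun x => rfl, sum_lam, if_neg ha]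
  have hK : (Nat.card K : ℂ) = 2 * nn K := by exact_mod_cast (two_mul_nn h).symm
  simp only [Finset.sum_const, Finset.card_univ, nsmul_eq_mul, mul_one, sub_zero,
    ← Nat.card_eq_fintype_card]
  field_simp [card_subgroup_ne_zero K]

end CfsgLib.InvolChar.BSW
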