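import Cfsg.Agent.Lib.InvolChar.BSW.Core
import Cfsg.Agent.Lib.Char.DefectZero

/-!
# Brauer-Suzuki-Wall: elements outside the conjugates of `K`
-/

namespace CfsgLib.InvolChar.BSW

open scoped ComplexConjugate
open CfsgLib.Char

/-- The conjugates of a set with normalizing subgroup `N` that controls its fusion. -/
theorem card_conjugates {G : Type*} [Group G] [Finite G] (S : Set G) (N : Subgroup G)
    (hN : ∀ g ∈ N, ∀ a ∈ S, g * a * g⁻¹ ∈ S)
    (hTI : ∀ g : G, ∀ a ∈ S, g * a * g⁻¹ ∈ S → g ∈ N) :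
    Nat.card {x : G // ∃ g : G, g * x * g⁻¹ ∈ S} = N.index * Nat.card S := by
  rw [Subgroup.index, ← Nat.card_prod]
  symm
  refine Nat.card_eq_of_bijective
    (fun p => ⟨p.1.out * p.2.1 * p.1.out⁻¹, p.1.out⁻¹, ?_⟩) ⟨?_, ?_⟩
  · simp [mul_assoc]
  · rintro ⟨q, a, ha⟩ ⟨r, b, hb⟩ e
    simp only [Subtype.mk.injEq] at e
    have h1 : (r.out⁻¹ * q.out) * a * (r.out⁻¹ * q.out)⁻¹ = b := by
      calc (r.out⁻¹ * q.out) * a * (r.out⁻¹ * q.out)⁻¹ = r.out⁻¹ * (q.out * a * q.out⁻¹) * r.out := by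
            group
        _ = b := by rw [e]; group
    have h2 : r.out⁻¹ * q.out ∈ N := hTI _ a ha (h1.symm ▸ hb)
    have hqr : r = q := by
      rw [← Quotient.out_eq r, ← Quotient.out_eq q]
      exact QuotientGroup.eq.mpr h2
    subst hqr
    simp only [inv_mul_cancel, one_mul, inv_one, mul_one] at h1
    subst h1
    rfl
  · rintro ⟨x, g, hg⟩
    set q : G ⧸ N := QuotientGroup.mk g⁻¹
    have h1 : g * q.out ∈ N := by
      have := QuotientGroup.eq.mp (Quotient.out_eq q).symm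
      simpa using this
    refine ⟨⟨q, ⟨(g * q.out)⁻¹ * (g * x * g⁻¹) * ((g * q.out)⁻¹)⁻¹, hN _ (N.inv_mem h1) _ hg⟩⟩, ?_⟩
    apply Subtype.ext
    show q.out * ((g * q.out)⁻¹ * (g * x * g⁻¹) * ((g * q.out)⁻¹)⁻¹) * q.out⁻¹ = x
    group

variable {G : Type*} [Group G] [Fintype G] {t : G} {K : Subgroup G} {s : G}
  {o : Lam K} {Θ η₁ η₂ : G → ℂ} {j : ℤ}

theorem F_eq (j : ℤ) : FF K j = 2 * NN K j - 1 := by rw [FF, NN]; ring

theorem Core.hall (c : Core t K o Θ η₁ η₂ j) {a : Lam K} (ha : a ≠ 1) :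
    Cfsg.classInner (BB K a) Θ = 1 := by
  by_cases h2 : a * a = 1
  · rw [(c.uniq a h2).resolve_left ha, c.eo, classInner_add_left, classInner_add_left, c.sΘ.2,
      ← classInner_conj_symm Θ η₁, c.o1, ← classInner_conj_symm Θ η₂, c.o2]
    simp
  · exact c.reg a h2

theorem Core.theta_K (h : Hyp t K s) (c : Core t K o Θ η₁ η₂ j) {k : K} (hk : k ≠ 1) : Θ k = 1 :=
  theta_value h c.sΘ c.o_ne (fun _ ha => c.hall ha) hk

theorem Core.inner_B_eta (c : Core t K o Θ η₁ η₂ j) :
    Cfsg.classInner (BB K o) η₁ = 1 ∧ Cfsg.classInner (BB K o) η₂ = 1 := by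
  constructor
  · rw [c.eo, classInner_add_left, classInner_add_left, c.o1, c.s1.2, ← classInner_conj_symm η₁ η₂,
      c.o12]
    simp
  · rw [c.eo, classInner_add_left, classInner_add_left, c.o2, c.o12, c.s2.2]
    simp

theorem Core.inner_one (c : Core t K o Θ η₁ η₂ j) :
    Cfsg.classInner Θ (fun _ => 1) = 0 ∧ Cfsg.classInner η₁ (fun _ => 1) = 0 ∧
      Cfsg.classInner η₂ (fun _ => 1) = 0 :=
  ⟨inner_signed_one c.o_ne c.sΘ (by rw [c.hall c.o_ne]; exact one_ne_zero),
    inner_signed_one c.o_ne c.s1 (by rw [c.inner_B_eta.1]; exact one_ne_zero),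
    inner_signed_one c.o_ne c.s2 (by rw [c.inner_B_eta.2]; exact one_ne_zero)⟩

variable (K) in
/-- The exceptional signed character attached to a regular linear character. -/
noncomputable def YY (Θ : G → ℂ) (a : Lam K) : G → ℂ := BB K a - Θ

theorem Core.sY (h : Hyp t K s) (c : Core t K o Θ η₁ η₂ j) {a : Lam K} (ha : Reg a) :
    IsSigned (YY K Θ a) := by
  refine ⟨isGen_sub (isGen_BB a) c.sΘ.1, ?_⟩
  have h2 : Cfsg.classInner Θ (BB K a) = 1 := by rw [← classInner_conj_symm, c.reg a ha, map_one]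
  rw [YY, classInner_sub_left, classInner_sub_right, classInner_sub_right, norm_BB_reg h ha,
    c.reg a ha, h2, c.sΘ.2]
  norm_num

theorem Core.Y_orth (h : Hyp t K s) (c : Core t K o Θ η₁ η₂ j) {a : Lam K} (ha : Reg a) :
    Cfsg.classInner (YY K Θ a) Θ = 0 ∧ Cfsg.classInner (YY K Θ a) η₁ = 0 ∧
      Cfsg.classInner (YY K Θ a) η₂ = 0 ∧ Cfsg.classInner (YY K Θ a) (fun _ => 1) = 0 := by
  have hao : a ≠ o := fun e => ha (e ▸ c.o_sq)
  have hao' : a⁻¹ ≠ o := fun e => ha.inv (e ▸ c.o_sq)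
  have h2 : Cfsg.classInner Θ (BB K o) = 1 := by rw [← classInner_conj_symm, c.hall c.o_ne, map_one]
  have h0 : Cfsg.classInner (YY K Θ a) (η₁ + η₂) = 0 := by
    rw [show η₁ + η₂ = BB K o - Θ by rw [c.eo]; abel, YY, classInner_sub_left, classInner_sub_right,
      classInner_sub_right, inner_BB_BB h ha.ne_one c.o_ne hao hao', c.reg a ha, h2, c.sΘ.2]
    ring
  have h3 := orth_of_sum (c.sY h ha) c.s1 c.o12 h0
  refine ⟨?_, h3.1, h3.2, ?_⟩
  · rw [YY, classInner_sub_left, c.reg a ha, c.sΘ.2, sub_self]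
  · rw [YY, classInner_sub_left, inner_BB_one ha.ne_one, c.inner_one.1, sub_zero]

theorem Core.inner_reg_eta (h : Hyp t K s) (c : Core t K o Θ η₁ η₂ j) {a : Lam K} (ha : Reg a) :
    Cfsg.classInner (BB K a) η₁ = 0 ∧ Cfsg.classInner (BB K a) η₂ = 0 := by
  have h1 := c.Y_orth h ha
  constructor
  · have := h1.2.1
    rwa [YY, classInner_sub_left, c.o1, sub_zero] at this
  · have := h1.2.2.1
    rwa [YY, classInner_sub_left, c.o2, sub_zero] at this

theorem Core.eta_t (h : Hyp t K s) (c : Core t K o Θ η₁ η₂ j) :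
    η₁ t * η₁ t = 1 ∧ η₂ t * η₂ t = 1 := by
  classical
  have := finite_lam h
  have := Fintype.ofFinite (Lam K)
  have key : ∀ η : G → ℂ, IsSigned η → Cfsg.classInner η (fun _ => 1) = 0 →
      Cfsg.classInner (BB K o) η = 1 → (∀ a, Reg a → Cfsg.classInner (BB K a) η = 0) →
      η t * η t = 1 := by
    intro η hη h1 ho hreg
    have hd : ∀ a : Lam K, dd η a = if a = o then 1 else 0 := by
      intro a
      by_cases hao : a = o
      · rw [hao, dd_of_inner h1, ho, map_one, if_pos rfl]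
      · rw [if_neg hao]
        by_cases h2 : a * a = 1
        · rw [(c.uniq a h2).resolve_right hao, dd_one_arg (isClassFunction_of_isGen hη.1)]
        · rw [dd_of_inner h1, hreg a h2, map_zero]
    rw [value_t h hη]
    simp only [hd, ite_mul, one_mul, zero_mul, Finset.sum_ite_eq', Finset.mem_univ, if_true]
    rcases lam_t_cases h o with e | e <;> rw [e] <;> norm_num
  exact ⟨key η₁ c.s1 c.inner_one.2.1 c.inner_B_eta.1 fun a ha => (c.inner_reg_eta h ha).1,
    key η₂ c.s2 c.inner_one.2.2 c.inner_B_eta.2 fun a ha => (c.inner_reg_eta h ha).2⟩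

theorem Core.Y_t (h : Hyp t K s) (c : Core t K o Θ η₁ η₂ j) {a : Lam K} (ha : Reg a) :
    YY K Θ a t * YY K Θ a t = 4 := by
  classical
  have := finite_lam h
  have := Fintype.ofFinite (Lam K)
  have hd : ∀ b : Lam K, dd (YY K Θ a) b =
      (if b = a then 1 else 0) + (if b = a⁻¹ then 1 else 0) := by
    intro b
    by_cases hb : b = 1
    · subst hb
      rw [dd_one_arg (isClassFunction_of_isGen (c.sY h ha).1), if_neg (Ne.symm ha.ne_one),
        if_neg (Ne.symm ha.inv.ne_one), add_zero]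
    · rw [dd_of_inner (c.Y_orth h ha).2.2.2, YY, classInner_sub_right, c.hall hb,
        gram_BB h hb ha.ne_one, map_sub, map_one]
      have e1 : (b⁻¹ = a) ↔ (b = a⁻¹) :=
        ⟨fun e => by rw [← e, lam_inv_inv], fun e => by rw [e, lam_inv_inv]⟩
      simp only [e1]
      split_ifs <;> simp
  rw [value_t h (c.sY h ha)]
  simp only [hd, add_mul, ite_mul, one_mul, zero_mul, Finset.sum_add_distrib, Finset.sum_ite_eq',
    Finset.mem_univ, if_true]
  rw [lam_inv_t h a]
  rcases lam_t_cases h a with e | e <;> rw [e] <;> norm_num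

theorem Core.Theta_t (h : Hyp t K s) (c : Core t K o Θ η₁ η₂ j) : Θ t = 1 :=
  c.theta_K h (t_ne h)

theorem F_ne (c : Core t K o Θ η₁ η₂ j) : (FF K j : ℂ) ≠ 0 := by
  obtain ⟨e, he, he', -⟩ := c.sΘ.degree
  rw [c.deg] at he'
  rw [he']
  exact_mod_cast he

theorem mm_pos_int (h : Hyp t K s) : (0 : ℤ) < (mm G : ℤ) := by exact_mod_cast h.odd_mm.pos

theorem N_ne (h : Hyp t K s) (c : Core t K o Θ η₁ η₂ j) : NN K j ≠ 0 := fun e => by
  have := mm_pos_int h
  rw [c.hm, e, mul_zero] at this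
  exact lt_irrefl 0 this

/-- Both small constituents have degree `-N`. -/
theorem Core.eta_deg (h : Hyp t K s) (c : Core t K o Θ η₁ η₂ j) :
    η₁ 1 = -(NN K j : ℂ) ∧ η₂ 1 = -(NN K j : ℂ) := by
  obtain ⟨a, ha0, ha, -⟩ := c.s1.degree
  obtain ⟨b, hb0, hb, -⟩ := c.s2.degree
  have hq := equation_three h c.o_ne c.sΘ c.s1 c.s2 c.eo
  rw [c.Theta_t h, (c.eta_t h).1, (c.eta_t h).2, c.deg, ha, hb] at hq
  have hsum : a + b = -2 * NN K j := by
    have h1 := congrFun c.eo 1
    rw [BB_one, Pi.add_apply, Pi.add_apply, c.deg, ha, hb] at h1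
    have : (-1 : ℤ) = FF K j + a + b := by exact_mod_cast h1
    have := F_eq (K := K) j
    linarith
  have a0 : (a : ℂ) ≠ 0 := by exact_mod_cast ha0
  have b0 : (b : ℂ) ≠ 0 := by exact_mod_cast hb0
  have F0 := F_ne c
  have hmC : (mm G : ℂ) = FF K j * NN K j := by exact_mod_cast c.hm
  rw [hmC] at hq
  field_simp at hq
  have hq' : NN K j * (FF K j * a * b + a * b + FF K j * b + FF K j * a) =
      8 * (nn K : ℤ) ^ 2 * (a * b) := by
    have : (NN K j : ℂ) * ((FF K j : ℂ) * a * b + a * b + FF K j * b + FF K j * a) =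
        8 * (nn K : ℂ) ^ 2 * ((a : ℂ) * b) := by
      linear_combination hq
    exact_mod_cast this
  have hn8 : 8 * (nn K : ℤ) ^ 2 = 2 * (NN K j - 1) ^ 2 := by
    rcases c.hj with rfl | rfl <;> rw [NN] <;> ring
  rw [hn8, F_eq] at hq'
  have hne : (2 * NN K j - 1 : ℤ) ≠ 0 := by omega
  have hprod : a * b = NN K j ^ 2 := by
    have : (2 * NN K j - 1) * (a * b) = (2 * NN K j - 1) * NN K j ^ 2 := by
      obtain rfl : b = -2 * NN K j - a := by linarith
      have h2 : 2 * ((2 * NN K j - 1) * (a * (-2 * NN K j - a))) =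
          2 * ((2 * NN K j - 1) * NN K j ^ 2) := by linear_combination hq'
      linarith
    exact mul_left_cancel₀ hne this
  have hsq : (a - b) ^ 2 = 0 := by
    have : (a + b) ^ 2 = (2 * NN K j) ^ 2 := by rw [hsum]; ring
    nlinarith
  have hab : a = b := by
    have := pow_eq_zero_iff (n := 2) (by norm_num) |>.mp hsq
    linarith
  rw [ha, hb]
  constructor <;> · have : (a : ℤ) = -NN K j := by linarith
                    first | exact_mod_cast this | exact_mod_cast (hab ▸ this : b = -NN K j)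

/-- Not conjugate into `K`. -/
def Off (K : Subgroup G) (x : G) : Prop := ∀ g : G, g * x * g⁻¹ ∉ K

theorem AA_off {x : G} (hx : Off K x) (a : Lam K) : AA K a x = 0 :=
  indFun_eq_zero_of_forall K fun g hg => absurd (by simpa using hg) (hx g⁻¹)

theorem card_reg (h : Hyp t K s) (c : Core t K o Θ η₁ η₂ j) [Fintype (Lam K)]
    [DecidablePred (Reg (K := K))] :
    ((Finset.univ.filter (Reg (K := K))).card : ℂ) = 2 * nn K - 2 := by
  classical
  have e : Finset.univ.filter (Reg (K := K)) = ({1, o} : Finset (Lam K))ᶜ := by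
    ext a
    simp only [Finset.mem_filter, Finset.mem_univ, true_and, Finset.mem_compl, Finset.mem_insert,
      Finset.mem_singleton, not_or]
    constructor
    · exact fun ha => ⟨ha.ne_one, fun e => ha (e ▸ c.o_sq)⟩
    · rintro ⟨h1, h2⟩ hsq
      exact ((c.uniq a hsq).elim h1 h2)
  have hu : Fintype.card (Lam K) = 2 * nn K := by rw [← Nat.card_eq_fintype_card, card_lam_eq h]
  have h2 : 2 ≤ 2 * nn K := by have := nn_pos h; omega
  rw [e, Finset.card_compl, Finset.card_pair (Ne.symm c.o_ne), hu, Nat.cast_sub h2]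
  push_cast
  ring

/-- The numbers of expressions as products of two involutions, off the conjugates of `K`. -/
theorem ff_off (h : Hyp t K s) (c : Core t K o Θ η₁ η₂ j) {x : G} (hx : Off K x) :
    4 * (nn K : ℂ) * ff G x = FF K j * NN K j + (2 * nn K - 1) * FF K j +
      (NN K j + (2 * nn K - 1) * FF K j) * Θ x := by
  classical
  have := finite_lam h
  have := Fintype.ofFinite (Lam K)
  set R := Finset.univ.filter (Reg (K := K)) with hR
  have hRm : ∀ {a}, a ∈ R → Reg a := fun {a} ha => (Finset.mem_filter.mp ha).2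
  set w : ℂ := (mm G : ℂ) / (4 * nn K) with hw
  have F0 := F_ne c
  have N0 : (NN K j : ℂ) ≠ 0 := by exact_mod_cast N_ne h c
  obtain ⟨oT, o1, o2⟩ := c.inner_one
  let Φ : G → ℂ := w • ((fun _ => 1) + (FF K j : ℂ)⁻¹ • Θ -
    (NN K j : ℂ)⁻¹ • (η₁ + η₂ + ∑ a ∈ R, YY K Θ a))
  have hΦ : ∀ X : G → ℂ, Cfsg.classInner Φ X =
      w * (Cfsg.classInner (fun _ => 1) X + (FF K j : ℂ)⁻¹ * Cfsg.classInner Θ X -
        (NN K j : ℂ)⁻¹ * (Cfsg.classInner η₁ X + Cfsg.classInner η₂ X +
          ∑ a ∈ R, Cfsg.classInner (YY K Θ a) X)) := by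
    intro X
    simp only [Φ, classInner_smul_left, classInner_sub_left, classInner_add_left, classInner_sum_left]
  have hs : ∀ {X Y : G → ℂ}, Cfsg.classInner X Y = 0 → Cfsg.classInner Y X = 0 := fun {X Y} e => by
    rw [← classInner_conj_symm, e, map_zero]
  have ok : ∀ X : G → ℂ, (X = (fun _ => 1) ∨ X = Θ ∨ X = η₁ ∨ X = η₂ ∨ ∃ a ∈ R, X = YY K Θ a) →
      IsSigned X ∧ Cfsg.classInner (ff G) X = Cfsg.classInner Φ X := by
    rintro X (rfl | rfl | rfl | rfl | ⟨b, hb, rfl⟩)
    · refine ⟨isSigned_one, ?_⟩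
      rw [inner_ff h isSigned_one, hΦ, classInner_irr_self isIrrCharacter_one, oT, o1, o2,
        Finset.sum_eq_zero fun a ha => (c.Y_orth h (hRm ha)).2.2.2]
      simp [hw]
    · refine ⟨c.sΘ, ?_⟩
      rw [inner_ff h c.sΘ, hΦ, c.Theta_t h, c.deg, hs oT, c.sΘ.2, hs c.o1, hs c.o2,
        Finset.sum_eq_zero fun a ha => (c.Y_orth h (hRm ha)).1]
      simp [hw]
    · refine ⟨c.s1, ?_⟩
      rw [inner_ff h c.s1, hΦ, (c.eta_t h).1, (c.eta_deg h).1, hs o1, c.o1, c.s1.2, hs c.o12,
        Finset.sum_eq_zero fun a ha => (c.Y_orth h (hRm ha)).2.1]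
      simp [hw]
    · refine ⟨c.s2, ?_⟩
      rw [inner_ff h c.s2, hΦ, (c.eta_t h).2, (c.eta_deg h).2, hs o2, c.o2, c.o12, c.s2.2,
        Finset.sum_eq_zero fun a ha => (c.Y_orth h (hRm ha)).2.2.1]
      simp [hw]
    · have hbr := hRm hb
      obtain ⟨yT, y1, y2, y0⟩ := c.Y_orth h hbr
      refine ⟨c.sY h hbr, ?_⟩
      have hg : ∀ a ∈ R, Cfsg.classInner (YY K Θ a) (YY K Θ b) =
          (if a = b then 1 else 0) + (if a = b⁻¹ then 1 else 0) := by
        intro a ha
        have har := hRm ha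
        have h2 : Cfsg.classInner Θ (BB K b) = 1 := by
          rw [← classInner_conj_symm, c.reg b hbr, map_one]
        rw [YY, YY, classInner_sub_left, classInner_sub_right, classInner_sub_right,
          gram_BB h har.ne_one hbr.ne_one, c.reg a har, h2, c.sΘ.2]
        have e1 : (a⁻¹ = b) ↔ (a = b⁻¹) :=
          ⟨fun e => by rw [← e, lam_inv_inv], fun e => by rw [e, lam_inv_inv]⟩
        simp only [e1]
        ring
      have hbi : b⁻¹ ∈ R := Finset.mem_filter.mpr ⟨Finset.mem_univ _, hbr.inv⟩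
      have hdeg : YY K Θ b 1 = -2 * (NN K j : ℂ) := by
        rw [YY, degree_Y c.deg, F_eq]
        push_cast
        ring
      rw [inner_ff h (c.sY h hbr), hΦ, c.Y_t h hbr, hdeg, hs y0, hs yT, hs y1, hs y2,
        Finset.sum_congr rfl hg, Finset.sum_add_distrib, Finset.sum_ite_eq', Finset.sum_ite_eq',
        if_pos hb, if_pos hbi]
      rw [← hw]
      field_simp
      ring
  have hcf : Cfsg.IsClassFunction G Φ :=
    isClassFunction_smul (isClassFunction_sub
      (isClassFunction_add (isClassFunction_const 1)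
        (isClassFunction_smul (isClassFunction_of_isGen c.sΘ.1) _))
      (isClassFunction_smul (isClassFunction_add (isClassFunction_add (isClassFunction_of_isGen c.s1.1)
        (isClassFunction_of_isGen c.s2.1))
        (isClassFunction_sum _ fun a ha => isClassFunction_of_isGen (c.sY h (hRm ha)).1)) _)) _
  have heq : ff G = Φ := by
    refine classFun_ext (isClassFunction_ff h) hcf fun χ hχ => ?_
    by_cases hex : ∃ X : G → ℂ,
        (X = (fun _ => 1) ∨ X = Θ ∨ X = η₁ ∨ X = η₂ ∨ ∃ a ∈ R, X = YY K Θ a) ∧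
          Cfsg.classInner χ X ≠ 0
    · obtain ⟨X, hX, hne⟩ := hex
      obtain ⟨hXs, e⟩ := ok X hX
      rcases (isSigned_of_irr hχ).eq_or_neg hXs hne with rfl | rfl
      · exact e
      · rw [classInner_neg_right, classInner_neg_right, e]
    · push Not at hex
      have z1 := hex _ (Or.inl rfl)
      have zT := hex _ (Or.inr (Or.inl rfl))
      have ze1 := hex _ (Or.inr (Or.inr (Or.inl rfl)))
      have ze2 := hex _ (Or.inr (Or.inr (Or.inr (Or.inl rfl))))
      have zY : ∀ a ∈ R, Cfsg.classInner χ (YY K Θ a) = 0 := fun a ha =>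
        hex _ (Or.inr (Or.inr (Or.inr (Or.inr ⟨a, ha, rfl⟩))))
      have hd : ∀ a : Lam K, dd χ a = 0 := by
        intro a
        by_cases h2 : a * a = 1
        · rcases c.uniq a h2 with rfl | rfl
          · exact dd_one_arg (isClassFunction_of_isIrr hχ)
          · rw [dd, show AA K a = BB K a + (fun _ => 1) from (sub_add_cancel _ _).symm,
              classInner_add_right, c.eo, classInner_add_right, classInner_add_right, zT, ze1, ze2, z1]
            simp
        · rw [dd, show AA K a = YY K Θ a + Θ + (fun _ => 1) by rw [YY, BB]; abel,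
            classInner_add_right, classInner_add_right, zY a (Finset.mem_filter.mpr ⟨Finset.mem_univ _, h2⟩),
            zT, z1]
          simp
      have hχt : χ t = 0 := by
        rw [value_t h (isSigned_of_irr hχ)]
        simp [hd]
      rw [inner_ff h (isSigned_of_irr hχ), hΦ, hs z1, hs zT, hs ze1, hs ze2,
        Finset.sum_eq_zero fun a ha => hs (zY a ha), hχt]
      simp
  have hη : η₁ x + η₂ x = -1 - Θ x := by
    have e := congrFun c.eo x
    simp only [BB, Pi.sub_apply, Pi.add_apply, AA_off hx] at e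
    linear_combination -e
  have hY : ∀ a ∈ R, YY K Θ a x = -1 - Θ x := fun a _ => by
    simp [YY, BB, AA_off hx]
  rw [heq]
  simp only [Φ, Pi.smul_apply, Pi.add_apply, Pi.sub_apply, Finset.sum_apply, smul_eq_mul,
    Finset.sum_congr rfl hY, hη, Finset.sum_const, nsmul_eq_mul]
  rw [hR, card_reg h c, hw, show (mm G : ℂ) = FF K j * NN K j by exact_mod_cast c.hm]
  have hn : (nn K : ℂ) ≠ 0 := by exact_mod_cast (nn_pos h).ne'
  field_simp
  ring

end CfsgLib.InvolChar.BSW
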