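import Cfsg.Agent.Lib.InvolChar.BSW.Count
import Mathlib.GroupTheory.FixedPointFree

/-!
# Brauer-Suzuki-Wall: orders and centralizers of the elements off the conjugates of `K`
-/

namespace CfsgLib.InvolChar.BSW

open scoped ComplexConjugate
open CfsgLib.Char

variable {G : Type*} [Group G] [Fintype G] {t : G} {K : Subgroup G} {s : G}
  {o : Lam K} {Θ η₁ η₂ : G → ℂ} {j : ℤ}

omit [Fintype G] in
theorem Off.ne_one {x : G} (hx : Off K x) : x ≠ 1 := fun e =>
  hx 1 (by subst e; simp)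

omit [Fintype G] in
theorem Hyp.not_invol (h : Hyp t K s) {x : G} (hx : Off K x) : ¬ IsInv x := fun hi => by
  obtain ⟨g, hg⟩ := isConj_iff.mp (h.conj x t hi h.invol_t)
  exact hx g (hg ▸ h.t_mem)

omit [Fintype G] in
theorem Hyp.no_invol (h : Hyp t K s) {x : G} (hx : Off K x) {v : G} (hv : IsInv v) :
    x * v ≠ v * x := fun e => by
  rcases h.of_commute_invol hv e with h' | ⟨g, hg⟩
  · exact h.not_invol hx h'
  · exact hx g hg

theorem Hyp.odd_cen (h : Hyp t K s) {x : G} (hx : Off K x) : Odd (Nat.card (cen x)) := by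
  rw [Nat.odd_iff]
  by_contra hev
  have h2 : 2 ∣ Nat.card (cen x) := by omega
  obtain ⟨v, hv⟩ := exists_prime_orderOf_dvd_card' 2 h2
  exact h.no_invol hx (v := (v : G)) (isInv_iff.mpr (by rwa [Subgroup.orderOf_coe]))
    (mem_cen.mp v.2).symm

omit [Fintype G] in
theorem self_mem_cen (x : G) : x ∈ cen x := mem_cen.mpr rfl

theorem Hyp.odd_order (h : Hyp t K s) {x : G} (hx : Off K x) : Odd (orderOf x) := by
  have hdvd : orderOf (⟨x, self_mem_cen x⟩ : cen x) ∣ Nat.card (cen x) := orderOf_dvd_natCard _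
  rw [Subgroup.orderOf_mk] at hdvd
  exact Odd.of_dvd_nat (h.odd_cen hx) hdvd

theorem modEq_one (c : Core t K o Θ η₁ η₂ j) :
    (2 * (nn K : ℤ)) ∣ FF K j - 1 ∧ (2 * (nn K : ℤ)) ∣ NN K j - 1 ∧ Odd (NN K j) ∧ Odd (FF K j) := by
  rcases c.hj with rfl | rfl
  · exact ⟨⟨2, by rw [FF]; ring⟩, ⟨1, by rw [NN]; ring⟩, ⟨(nn K : ℤ), by rw [NN]; ring⟩,
      ⟨2 * (nn K : ℤ), by rw [FF]; ring⟩⟩
  · exact ⟨⟨-2, by rw [FF]; ring⟩, ⟨-1, by rw [NN]; ring⟩, ⟨-(nn K : ℤ), by rw [NN]; ring⟩,
      ⟨-2 * (nn K : ℤ), by rw [FF]; ring⟩⟩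

/-- `|F|` and `|N|`. -/
noncomputable def qq (K : Subgroup G) (j : ℤ) : ℕ := (FF K j).natAbs

/-- The half of `q ± 1`. -/
noncomputable def rr (K : Subgroup G) (j : ℤ) : ℕ := (NN K j).natAbs

theorem mm_eq_mul (c : Core t K o Θ η₁ η₂ j) : mm G = qq K j * rr K j := by
  have := congrArg Int.natAbs c.hm
  rw [Int.natAbs_natCast, Int.natAbs_mul] at this
  exact this

theorem coprime_four (c : Core t K o Θ η₁ η₂ j) :
    Nat.Coprime (qq K j) (4 * nn K) ∧ Nat.Coprime (rr K j) (4 * nn K) := by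
  obtain ⟨hF, hN, hNo, hFo⟩ := modEq_one c
  have key : ∀ A : ℤ, Odd A → (2 * (nn K : ℤ)) ∣ A - 1 → Nat.Coprime A.natAbs (4 * nn K) := by
    intro A hA ⟨z, hz⟩
    refine Nat.Coprime.mul_right ?_ ?_
    · exact Nat.Coprime.pow_right 2 (Nat.coprime_two_right.mpr (Int.natAbs_odd.mpr hA))
    · have : IsCoprime A (nn K : ℤ) := ⟨1, -2 * z, by linarith⟩
      exact Int.isCoprime_iff_nat_coprime.mp this
  exact ⟨key _ hFo hF, key _ hNo hN⟩

theorem coprime_qr : Nat.Coprime (qq K j) (rr K j) := by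
  have : IsCoprime (FF K j) (NN K j) := ⟨-1, 2, by rw [F_eq]; ring⟩
  exact Int.isCoprime_iff_nat_coprime.mp this

/-- The order of an element off the conjugates of `K` is prime to `|C(t)|`. -/
theorem Hyp.coprime_order (h : Hyp t K s) (c : Core t K o Θ η₁ η₂ j) {x : G} (hx : Off K x) :
    Nat.Coprime (orderOf x) (4 * nn K) := by
  refine Nat.coprime_of_dvd fun p hp hpx hpn => ?_
  have := Fact.mk hp
  by_cases hp2 : p = 2
  · subst hp2
    exact (Nat.not_even_iff_odd.mpr (h.odd_order hx)) (even_iff_two_dvd.mpr hpx)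
  have hpK : p ∣ nn K := by
    rcases hp.dvd_mul.mp hpn with h4 | h4
    · exact absurd ((Nat.prime_dvd_prime_iff_eq hp Nat.prime_two).mp
        (hp.dvd_of_dvd_pow (show p ∣ 2 ^ 2 by simpa using h4))) hp2
    · exact h4
  -- `K` contains a Sylow subgroup
  let _ := Fintype.ofFinite K
  obtain ⟨P⟩ := (inferInstance : Nonempty (Sylow p K))
  have hfac : (Nat.card G).factorization p = (Nat.card K).factorization p := by
    have hcop : ¬ p ∣ mm G := by
      rw [mm_eq_mul c]
      intro hd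
      have hpq : p ∣ 4 * nn K := hpK.mul_left 4
      rcases hp.dvd_mul.mp hd with hd | hd
      · exact hp.one_lt.ne' (Nat.dvd_one.mp ((coprime_four c).1 ▸ Nat.dvd_gcd hd hpq))
      · exact hp.one_lt.ne' (Nat.dvd_one.mp ((coprime_four c).2 ▸ Nat.dvd_gcd hd hpq))
    rw [h.card_eq, show 4 * nn K * mm G = 2 * (2 * nn K) * mm G by ring, two_mul_nn h,
      Nat.factorization_mul (by simp) (h.odd_mm.pos.ne'),
      Nat.factorization_mul two_ne_zero (Nat.card_pos (α := K)).ne']
    simp only [Finsupp.add_apply, Nat.factorization_eq_zero_of_not_dvd hcop,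
      Nat.prime_two.factorization, Finsupp.single_eq_of_ne hp2, zero_add, add_zero]
  let PG : Sylow p G := Sylow.ofCard ((P : Subgroup K).map K.subtype) (by
    rw [Subgroup.card_map_of_injective K.subtype_injective, P.card_eq_multiplicity, hfac])
  set y := x ^ (orderOf x / p) with hy
  have hyo : orderOf y = p := orderOf_pow_orderOf_div (orderOf_pos x).ne' hpx
  obtain ⟨Q, hQ⟩ := (IsPGroup.of_card (n := 1) (show Nat.card (Subgroup.zpowers y) = p ^ 1 by
    rw [Nat.card_zpowers, hyo, pow_one])).exists_le_sylow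
  obtain ⟨g, rfl⟩ := MulAction.exists_smul_eq G PG Q
  have hmem := hQ (Subgroup.mem_zpowers y)
  have hyK : g⁻¹ * y * g⁻¹⁻¹ ∈ K := by
    rw [Sylow.smul_def, Sylow.pointwise_smul_def, Subgroup.mem_pointwise_smul_iff_inv_smul_mem] at hmem
    obtain ⟨k, -, hk⟩ := hmem
    have e : g⁻¹ * y * g⁻¹⁻¹ = K.subtype k := by
      rw [hk]; simp [MulAut.smul_def]
    rw [e]; exact k.2
  set k := g⁻¹ * y * g⁻¹⁻¹ with hk
  have hko : orderOf k = p := by
    rw [← hyo, hk]
    exact MulEquiv.orderOf_eq (MulAut.conj g⁻¹) y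
  have hk2 : k * k ≠ 1 := fun e => hp2 (by
    have h2 := orderOf_dvd_of_pow_eq_one (show k ^ 2 = 1 by rw [pow_two, e])
    rw [hko] at h2
    exact (Nat.prime_dvd_prime_iff_eq hp Nat.prime_two).mp h2)
  have hcx : g⁻¹ * x * g⁻¹⁻¹ ∈ cen k := by
    rw [mem_cen, hk]
    have : x * y = y * x := by rw [hy, ← pow_succ, ← pow_succ']
    calc g⁻¹ * x * g⁻¹⁻¹ * (g⁻¹ * y * g⁻¹⁻¹) = g⁻¹ * (x * y) * g⁻¹⁻¹ := by group
      _ = g⁻¹ * (y * x) * g⁻¹⁻¹ := by rw [this]
      _ = _ := by group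
  rw [h.cen_eq hyK hk2] at hcx
  exact hx g⁻¹ hcx

/-- A signed character of degree divisible by the full `p`-part vanishes at `p`-singular elements. -/
theorem vanish (h : Hyp t K s) {X : G → ℂ} (hX : IsSigned X) {a b p : ℕ} (hp : p.Prime)
    (hdeg : X 1 = a ∨ X 1 = -(a : ℂ)) (hG : Nat.card G = a * b) (hab : Nat.Coprime a b)
    (hpa : p ∣ a) {x : G} (hx : p ∣ orderOf x) : X x = 0 := by
  have := h
  obtain ⟨χ, hχ, e⟩ := hX.cases
  obtain ⟨d, -, hd⟩ := exists_degree_pos hχ
  have hda : d = a := by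
    rcases e with rfl | rfl <;> rcases hdeg with e' | e' <;>
      simp only [Pi.neg_apply, hd, neg_inj] at e'
    · exact_mod_cast e'
    · have e2 : (d : ℤ) = -(a : ℤ) := by exact_mod_cast e'
      omega
    · have e2 : -(d : ℤ) = (a : ℤ) := by exact_mod_cast e'
      omega
    · exact_mod_cast e'
  subst hda
  have ha0 : d ≠ 0 := fun e0 => Nat.card_pos.ne' (by rw [hG, e0, zero_mul] : Nat.card G = 0)
  have h1 : p ^ d.factorization p ∣ Nat.card G := hG ▸ (Nat.ordProj_dvd d p).mul_right b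
  have h2 : ¬ p ^ (d.factorization p + 1) ∣ Nat.card G := fun hd' => by
    rw [hG] at hd'
    have hcop : Nat.Coprime (p ^ (d.factorization p + 1)) b :=
      Nat.Coprime.pow_left _ (hab.coprime_dvd_left hpa)
    exact Nat.pow_succ_factorization_not_dvd ha0 hp (hcop.dvd_of_dvd_mul_right hd')
  have hv := vanish_of_defect_zero hχ hp h1 h2 hd (Nat.ordProj_dvd d p) hx
  rcases e with rfl | rfl <;> simp [hv]

theorem natAbs_cast (A : ℤ) : (A : ℂ) = (A.natAbs : ℂ) ∨ (A : ℂ) = -(A.natAbs : ℂ) := by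
  rcases Int.natAbs_eq A with e | e
  · exact Or.inl ((congrArg (fun z : ℤ => (z : ℂ)) e).trans (Int.cast_natCast _))
  · exact Or.inr ((congrArg (fun z : ℤ => (z : ℂ)) e).trans
      ((Int.cast_neg _).trans (congrArg Neg.neg (Int.cast_natCast _))))

/-- The two types of elements off the conjugates of `K`. -/
theorem off_cases (h : Hyp t K s) (c : Core t K o Θ η₁ η₂ j) {x : G} (hx : Off K x) :
    (Θ x = 0 ∧ orderOf x ∣ qq K j) ∨ (Θ x = -1 ∧ orderOf x ∣ rr K j) := by
  have hcard : Nat.card G = qq K j * (4 * nn K * rr K j) := by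
    rw [h.card_eq, mm_eq_mul c]; ring
  have hcard' : Nat.card G = rr K j * (4 * nn K * qq K j) := by
    rw [h.card_eq, mm_eq_mul c]; ring
  have hq : ∀ p, p.Prime → p ∣ qq K j → p ∣ orderOf x → Θ x = 0 := fun p hp hpq hpx =>
    vanish h c.sΘ hp (by rw [c.deg]; exact natAbs_cast _) hcard
      ((coprime_four c).1.mul_right coprime_qr) hpq hpx
  have hr : ∀ p, p.Prime → p ∣ rr K j → p ∣ orderOf x → Θ x = -1 := by
    intro p hp hpr hpx
    have hdeg : (-(NN K j : ℂ)) = (rr K j : ℂ) ∨ (-(NN K j : ℂ)) = -(rr K j : ℂ) := by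
      rcases natAbs_cast (NN K j) with e | e
      · exact Or.inr (by rw [e]; rfl)
      · exact Or.inl (by rw [e, neg_neg]; rfl)
    have hab := (coprime_four c).2.mul_right (coprime_qr (K := K) (j := j)).symm
    have z1 := vanish h c.s1 hp (by rw [(c.eta_deg h).1]; exact hdeg) hcard' hab hpr hpx
    have z2 := vanish h c.s2 hp (by rw [(c.eta_deg h).2]; exact hdeg) hcard' hab hpr hpx
    have e := congrFun c.eo x
    simp only [BB, Pi.sub_apply, Pi.add_apply, AA_off hx, z1, z2] at e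
    linear_combination -e
  have hdvd : orderOf x ∣ qq K j * rr K j := by
    have h1 := orderOf_dvd_natCard x
    rw [h.card_eq, mm_eq_mul c] at h1
    exact (h.coprime_order c hx).dvd_of_dvd_mul_left h1
  have hne : orderOf x ≠ 1 := fun e => hx.ne_one (orderOf_eq_one_iff.mp e)
  by_cases hcop : Nat.Coprime (orderOf x) (rr K j)
  · have hd := hcop.dvd_of_dvd_mul_right hdvd
    obtain ⟨p, hp, hpx⟩ := Nat.exists_prime_and_dvd hne
    exact Or.inl ⟨hq p hp (hpx.trans hd) hpx, hd⟩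
  · obtain ⟨p, hp, hpx, hpr⟩ := Nat.Prime.not_coprime_iff_dvd.mp hcop
    have hΘ := hr p hp hpr hpx
    refine Or.inr ⟨hΘ, ?_⟩
    have hcop2 : Nat.Coprime (orderOf x) (qq K j) := by
      refine Nat.coprime_of_dvd fun l hl hlx hlq => ?_
      have := hq l hl hlq hlx
      rw [hΘ] at this
      norm_num at this
    exact hcop2.dvd_of_dvd_mul_left hdvd

/-- An involution inverting `x` inverts the centralizer of `x`, which is abelian. -/
theorem Hyp.inverts_cen (h : Hyp t K s) {x u : G} (hx : Off K x) (hu : IsInv u)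
    (hinvx : u * x * u⁻¹ = x⁻¹) :
    (∀ c ∈ cen x, u * c * u⁻¹ = c⁻¹) ∧ ∀ a ∈ cen x, ∀ b ∈ cen x, a * b = b * a := by
  have hmem : ∀ c ∈ cen x, u * c * u⁻¹ ∈ cen x := by
    intro c hc
    have hc' : c * x⁻¹ = x⁻¹ * c := (Commute.inv_right (mem_cen.mp hc : Commute c x)).eq
    have e : u * c * u⁻¹ * x⁻¹⁻¹ = x⁻¹⁻¹ * (u * c * u⁻¹) := by
      have hx' : u * x⁻¹ * u⁻¹ = x⁻¹⁻¹ := by rw [← conj_inv, hinvx]
      rw [← hx']
      calc u * c * u⁻¹ * (u * x⁻¹ * u⁻¹) = u * (c * x⁻¹) * u⁻¹ := by group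
        _ = u * (x⁻¹ * c) * u⁻¹ := by rw [hc']
        _ = _ := by group
    exact mem_cen.mpr (by simpa using e)
  let φ : cen x →* cen x :=
    { toFun := fun c => ⟨u * c * u⁻¹, hmem c c.2⟩
      map_one' := Subtype.ext (by simp)
      map_mul' := fun a b => Subtype.ext (by simp [mul_assoc]) }
  have hfix : MonoidHom.FixedPointFree φ := by
    intro c hc
    by_contra hc1
    have e : u * (c : G) * u⁻¹ = c := congrArg Subtype.val hc
    have hodd : Odd (orderOf (c : G)) := by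
      rw [Subgroup.orderOf_coe]
      exact Odd.of_dvd_nat (h.odd_cen hx) (orderOf_dvd_natCard _)
    rcases h.of_commute_invol hu (show (c : G) * u = u * c from (mul_inv_eq_iff_eq_mul.mp e).symm) with
      hi | ⟨g, hg⟩
    · rw [isInv_iff.mp hi] at hodd; norm_num at hodd
    · have hg2 : g * (c : G) * g⁻¹ * (g * c * g⁻¹) ≠ 1 := fun e2 => by
        have e3 : (c : G) * c = 1 := by
          have : g * ((c : G) * c) * g⁻¹ = 1 := by rw [← e2]; group
          simpa [mul_inv_eq_one] using this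
        rw [isInv_iff.mp ⟨fun e4 => hc1 (Subtype.ext e4), e3⟩] at hodd
        norm_num at hodd
      have hxin : g * x * g⁻¹ ∈ cen (g * (c : G) * g⁻¹) := by
        rw [mem_cen]
        calc g * x * g⁻¹ * (g * c * g⁻¹) = g * (x * c) * g⁻¹ := by group
          _ = g * ((c : G) * x) * g⁻¹ := by rw [mem_cen.mp c.2]
          _ = _ := by group
      rw [h.cen_eq hg hg2] at hxin
      exact hx g hxin
  have hinvol : Function.Involutive φ := fun c => Subtype.ext (by
    show u * (u * (c : G) * u⁻¹) * u⁻¹ = c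
    calc _ = (u * u) * (c : G) * (u * u)⁻¹ := by group
      _ = _ := by rw [hu.2]; group)
  refine ⟨fun c hc => ?_, fun a ha b hb =>
    congrArg Subtype.val (hfix.commute_all_of_involutive hinvol ⟨a, ha⟩ ⟨b, hb⟩).eq⟩
  have := congrArg Subtype.val (congrFun (hfix.coe_eq_inv_of_involutive hinvol) ⟨c, hc⟩)
  simpa [φ] using this

/-- A strongly real element off the conjugates of `K`. -/
theorem Hyp.real_structure (h : Hyp t K s) {x : G} (hx : Off K x) (hne : ff G x ≠ 0) :
    ∃ u : G, IsInv u ∧ (∀ c ∈ cen x, u * c * u⁻¹ = c⁻¹) ∧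
      ff G x = (Nat.card (cen x) : ℂ) ∧ (∀ a ∈ cen x, ∀ b ∈ cen x, a * b = b * a) ∧
      ∀ y ∈ cen x, y ≠ 1 → Off K y ∧ cen y = cen x := by
  obtain ⟨⟨u, hu, hux⟩⟩ : Nonempty {u : G // IsInv u ∧ IsInv (u * x)} := by
    by_contra hempty
    rw [not_nonempty_iff] at hempty
    exact hne (by simp [ff, Nat.card_of_isEmpty])
  have hinvx : u * x * u⁻¹ = x⁻¹ := by
    rw [hu.inv_eq, eq_inv_iff_mul_eq_one]
    simpa [mul_assoc] using hux.2
  obtain ⟨hinv, hcomm⟩ := h.inverts_cen hx hu hinvx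
  refine ⟨u, hu, hinv, ?_, hcomm, fun y hy hy1 => ?_⟩
  · have hI : ∀ c ∈ cen x, IsInv (u * c) := by
      intro c hc
      refine ⟨fun e => ?_, ?_⟩
      · have huc : u ∈ cen x := by
          rw [eq_inv_of_mul_eq_one_left e]; exact (cen x).inv_mem hc
        exact h.no_invol hx hu (mem_cen.mp huc).symm
      · have e := hinv c hc
        rw [hu.inv_eq] at e
        calc u * c * (u * c) = (u * c * u) * c := by group
          _ = 1 := by rw [e, inv_mul_cancel]
    rw [ff]
    congr 1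
    refine Nat.card_congr
      { toFun := fun v => ⟨u * v.1, ?_⟩
        invFun := fun c => ⟨u * c.1, hI _ c.2, by
          rw [mul_assoc]; exact hI _ ((cen x).mul_mem c.2 (self_mem_cen x))⟩
        left_inv := fun v => Subtype.ext (by
          show u * (u * v.1) = v.1
          rw [← mul_assoc, hu.2, one_mul])
        right_inv := fun c => Subtype.ext (by
          show u * (u * c.1) = c.1
          rw [← mul_assoc, hu.2, one_mul]) }
    rw [mem_cen]
    have e : v.1 * x * v.1⁻¹ = x⁻¹ := by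
      rw [v.2.1.inv_eq, eq_inv_iff_mul_eq_one]
      simpa [mul_assoc] using v.2.2.2
    have e' : u * x⁻¹ * u⁻¹ = x := by
      have := congrArg (·⁻¹) hinvx
      simpa [mul_assoc, hu.inv_eq] using this
    calc u * v.1 * x = u * (v.1 * x * v.1⁻¹) * u⁻¹ * (u * v.1) := by group
      _ = _ := by rw [e, e']
  · have hyoff : Off K y := by
      intro g hg
      have hy2 : g * y * g⁻¹ * (g * y * g⁻¹) ≠ 1 := fun e2 => by
        have e3 : y * y = 1 := by
          have : g * (y * y) * g⁻¹ = 1 := by rw [← e2]; group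
          simpa [mul_inv_eq_one] using this
        exact h.no_invol hx (v := y) ⟨hy1, e3⟩ (mem_cen.mp hy).symm
      have hxin : g * x * g⁻¹ ∈ cen (g * y * g⁻¹) := by
        rw [mem_cen]
        calc g * x * g⁻¹ * (g * y * g⁻¹) = g * (x * y) * g⁻¹ := by group
          _ = g * (y * x) * g⁻¹ := by rw [mem_cen.mp hy]
          _ = _ := by group
      rw [h.cen_eq hg hy2] at hxin
      exact hx g hxin
    refine ⟨hyoff, le_antisymm (fun z hz => ?_) fun z hz => mem_cen.mpr (hcomm z hz y hy)⟩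
    -- `C(y)` is abelian as well
    exact mem_cen.mpr ((h.inverts_cen hyoff hu (hinv y hy)).2 z hz x
      (mem_cen.mpr (mem_cen.mp hy).symm))

end CfsgLib.InvolChar.BSW
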