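import Mathlib
import Cfsg.Agent.Lib.Char.Ortho

/-!
# The configuration of Brauer-Suzuki-Wall: group-theoretic basics

An involution `t` whose centralizer is a generalized dihedral group `K⟨s⟩` with `K` a TI subgroup
and `K ∩ C(s) = ⟨t⟩`, all involutions being conjugate.
-/

namespace CfsgLib.InvolChar.BSW

variable {G : Type*} [Group G]

/-- The centralizer of `t`. -/
abbrev cen (t : G) : Subgroup G := Subgroup.centralizer ({t} : Set G)

/-- Involutions, phrased without `orderOf`. -/
def IsInv (u : G) : Prop := u ≠ 1 ∧ u * u = 1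

theorem isInv_iff {u : G} : IsInv u ↔ orderOf u = 2 := by
  rw [orderOf_eq_prime_iff (p := 2), pow_two]
  exact ⟨fun h => ⟨h.2, h.1⟩, fun h => ⟨h.2, h.1⟩⟩

theorem IsInv.inv_eq {u : G} (h : IsInv u) : u⁻¹ = u := inv_eq_of_mul_eq_one_right h.2

theorem IsInv.conj {u : G} (h : IsInv u) (g : G) : IsInv (g * u * g⁻¹) := by
  refine ⟨fun e => h.1 ?_, ?_⟩
  · calc u = g⁻¹ * (g * u * g⁻¹) * g := by group
      _ = 1 := by rw [e]; group
  · calc g * u * g⁻¹ * (g * u * g⁻¹) = g * (u * u) * g⁻¹ := by group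
      _ = 1 := by rw [h.2]; group

/-- The hypotheses. -/
structure Hyp (t : G) (K : Subgroup G) (s : G) : Prop where
  invol_t : IsInv t
  invol_s : IsInv s
  comm : ∀ x ∈ K, ∀ y ∈ K, x * y = y * x
  le_cen : K ≤ cen t
  t_mem : t ∈ K
  s_mem : s ∈ cen t
  s_not_mem : s ∉ K
  sup_eq : K ⊔ Subgroup.zpowers s = cen t
  inf_eq : K ⊓ cen s = Subgroup.zpowers t
  inverts : ∀ x ∈ K, s * x * s⁻¹ = x⁻¹
  ti : ∀ g : G, g ∉ cen t → ∀ x ∈ K, g * x * g⁻¹ ∈ K → x = 1
  conj : ∀ x y : G, IsInv x → IsInv y → IsConj x y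

theorem mem_cen {t g : G} : g ∈ cen t ↔ g * t = t * g :=
  Subgroup.mem_centralizer_singleton_iff

variable {t : G} {K : Subgroup G} {s : G}

/-- Half the order of `K`. -/
noncomputable def nn (K : Subgroup G) : ℕ := Nat.card K / 2

theorem Hyp.cases (h : Hyp t K s) {g : G} (hg : g ∈ cen t) : g ∈ K ∨ g * s ∈ K := by
  have hss := h.invol_s.2
  let S : Subgroup G :=
    { carrier := {g | g ∈ K ∨ g * s ∈ K}
      one_mem' := Or.inl K.one_mem
      mul_mem' := by
        rintro a b (ha | ha) (hb | hb)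
        · exact Or.inl (K.mul_mem ha hb)
        · exact Or.inr (by rw [mul_assoc]; exact K.mul_mem ha hb)
        · -- `a b s = (a s) (s b s)`
          refine Or.inr ?_
          have e : a * b * s = (a * s) * (s * b * s⁻¹) := by
            rw [h.invol_s.inv_eq, mul_assoc a s, ← mul_assoc s (s * b) s, ← mul_assoc s s b, hss,
              one_mul, mul_assoc]
          rw [e, h.inverts b hb]
          exact K.mul_mem ha (K.inv_mem hb)
        · refine Or.inl ?_
          have e : a * b = (a * s) * (s * (b * s) * s⁻¹) := by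
            rw [h.invol_s.inv_eq, mul_assoc s (b * s) s, mul_assoc b s s, hss, mul_one, ← mul_assoc,
              mul_assoc a s s, hss, mul_one]
          rw [e, h.inverts _ hb]
          exact K.mul_mem ha (K.inv_mem hb)
      inv_mem' := by
        rintro a (ha | ha)
        · exact Or.inl (K.inv_mem ha)
        · refine Or.inr ?_
          have e : a⁻¹ * s = s * (a * s)⁻¹ * s⁻¹ * (1 : G) := by
            rw [mul_one, mul_inv_rev, h.invol_s.inv_eq, ← mul_assoc s s, hss, one_mul]
          rw [e, mul_one, h.inverts _ (K.inv_mem ha), inv_inv]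
          exact ha }
  have hle : cen t ≤ S := by
    rw [← h.sup_eq, sup_le_iff, Subgroup.zpowers_le]
    exact ⟨fun x hx => Or.inl hx, Or.inr (by show s * s ∈ K; rw [hss]; exact K.one_mem)⟩
  exact hle hg

/-- The elements of `C(t)` outside `K` are involutions inverting `K`. -/
theorem Hyp.outside (h : Hyp t K s) {g : G} (hg : g ∈ cen t) (hgK : g ∉ K) :
    IsInv g ∧ ∀ x ∈ K, g * x * g⁻¹ = x⁻¹ := by
  have hgs := (h.cases hg).resolve_left hgK
  have hinv : ∀ x ∈ K, g * x * g⁻¹ = x⁻¹ := by
    intro x hx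
    have e : g * x * g⁻¹ = (g * s) * (s * x * s⁻¹) * (g * s)⁻¹ := by
      rw [mul_inv_rev, h.invol_s.inv_eq]
      calc g * x * g⁻¹ = g * (s * s) * x * (s * s) * g⁻¹ := by rw [h.invol_s.2]; group
        _ = _ := by group
    rw [e, h.inverts x hx, h.comm _ hgs _ (K.inv_mem hx)]
    group
  refine ⟨⟨fun e => hgK (e ▸ K.one_mem), ?_⟩, hinv⟩
  have h1 := hinv _ hgs
  have e : g * g = ((g * (g * s) * g⁻¹) * (g * s)) := by
    calc g * g = g * g * (s * g⁻¹ * g * s) := by
          rw [inv_mul_cancel_right, h.invol_s.2, mul_one]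
      _ = _ := by group
  rw [e, h1, inv_mul_cancel]

theorem Hyp.eq_of_sq (h : Hyp t K s) {x : G} (hx : x ∈ K) (h2 : x * x = 1) : x = 1 ∨ x = t := by
  have hmem : x ∈ Subgroup.zpowers t := by
    rw [← h.inf_eq]
    refine ⟨hx, mem_cen.mpr ?_⟩
    have h1 := h.inverts x hx
    rw [inv_eq_of_mul_eq_one_right h2] at h1
    calc x * s = (s * x * s⁻¹) * s := by rw [h1]
      _ = s * x := by group
  have h2' : orderOf t = 2 := isInv_iff.mp h.invol_t
  obtain ⟨k, rfl⟩ := Subgroup.mem_zpowers_iff.mp hmem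
  rw [← zpow_mod_orderOf, h2']
  rcases Int.emod_two_eq_zero_or_one k with e | e
  · left; simp [e]
  · right; simp [e]

theorem Hyp.t_ne_one (h : Hyp t K s) : t ≠ 1 := h.invol_t.1

theorem Hyp.invol_cases (h : Hyp t K s) {u : G} (hu : IsInv u) (huK : u ∈ K) : u = t :=
  (h.eq_of_sq huK hu.2).resolve_left hu.1

theorem Hyp.mem_cen_of_conj_mem (h : Hyp t K s) {g x : G} (hx : x ∈ K) (hx1 : x ≠ 1)
    (hg : g * x * g⁻¹ ∈ K) : g ∈ cen t :=
  by_contra fun hh => hx1 (h.ti g hh x hx hg)

theorem Hyp.cen_eq (h : Hyp t K s) {x : G} (hx : x ∈ K) (hx2 : x * x ≠ 1) : cen x = K := by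
  refine le_antisymm (fun c hc => ?_) fun k hk => mem_cen.mpr (h.comm k hk x hx)
  have hc' := mem_cen.mp hc
  have hx1 : x ≠ 1 := fun e => hx2 (by rw [e, mul_one])
  have e : c * x * c⁻¹ = x := by rw [hc', mul_inv_cancel_right]
  have hct := h.mem_cen_of_conj_mem hx hx1 (show c * x * c⁻¹ ∈ K by rw [e]; exact hx)
  by_contra hcK
  have := (h.outside hct hcK).2 x hx
  rw [e] at this
  exact hx2 (mul_eq_one_iff_eq_inv.mpr this)

/-- Conjugation inside `K` is trivial or inversion. -/
theorem Hyp.fusion (h : Hyp t K s) {g x : G} (hg : g ∈ cen t) (hx : x ∈ K) :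
    (g ∈ K ∧ g * x * g⁻¹ = x) ∨ (g ∉ K ∧ g * x * g⁻¹ = x⁻¹) := by
  by_cases hgK : g ∈ K
  · exact Or.inl ⟨hgK, by rw [h.comm g hgK x hx, mul_inv_cancel_right]⟩
  · exact Or.inr ⟨hgK, (h.outside hg hgK).2 x hx⟩

theorem Hyp.normal (h : Hyp t K s) {g x : G} (hg : g ∈ cen t) (hx : x ∈ K) : g * x * g⁻¹ ∈ K := by
  rcases h.fusion hg hx with ⟨-, e⟩ | ⟨-, e⟩
  · rw [e]; exact hx
  · rw [e]; exact K.inv_mem hx

theorem two_mul_nn [Finite G] (h : Hyp t K s) : 2 * nn K = Nat.card K := by
  have h2 : 2 ∣ Nat.card K := by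
    have e : orderOf (⟨t, h.t_mem⟩ : K) = 2 := by
      rw [Subgroup.orderOf_mk, ← isInv_iff]; exact h.invol_t
    exact e ▸ orderOf_dvd_natCard _
  exact Nat.mul_div_cancel' h2

theorem nn_pos [Finite G] (h : Hyp t K s) : 0 < nn K := by
  have := two_mul_nn h
  have : 0 < Nat.card K := Nat.card_pos
  omega

/-- `C(t) ∖ K` is a translate of `K`. -/
def Hyp.outsideEquiv (h : Hyp t K s) : K ≃ {g : G // g ∈ cen t ∧ g ∉ K} where
  toFun k := ⟨(k : G) * s, (cen t).mul_mem (h.le_cen k.2) h.s_mem,
    fun e => h.s_not_mem (by simpa using K.mul_mem (K.inv_mem k.2) e)⟩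
  invFun g := ⟨g.1 * s, (h.cases g.2.1).resolve_left g.2.2⟩
  left_inv k := Subtype.ext (by simp [mul_assoc, h.invol_s.2])
  right_inv g := Subtype.ext (by simp [mul_assoc, h.invol_s.2])

theorem Hyp.card_cen [Finite G] (h : Hyp t K s) : Nat.card (cen t) = 4 * nn K := by
  classical
  have e1 : Nat.card {g : G // g ∈ cen t ∧ g ∉ K} = Nat.card K := (Nat.card_congr h.outsideEquiv).symm
  let e : cen t ≃ K ⊕ {g : G // g ∈ cen t ∧ g ∉ K} :=
    { toFun := fun g => if hg : (g : G) ∈ K then .inl ⟨g, hg⟩ else .inr ⟨g, g.2, hg⟩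
      invFun := Sum.elim (fun k : K => (⟨(k : G), h.le_cen k.2⟩ : cen t))
        (fun g : {g : G // g ∈ cen t ∧ g ∉ K} => ⟨g.1, g.2.1⟩)
      left_inv := fun g => by by_cases hg : (g : G) ∈ K <;> simp [hg]
      right_inv := fun o => by
        rcases o with k | g
        · simp
        · simp [g.2.2] }
  rw [Nat.card_congr e, Nat.card_sum, e1]
  have := two_mul_nn h
  omega

/-- The number of involutions. -/
noncomputable def mm (G : Type*) [Group G] : ℕ := Nat.card {u : G // IsInv u}

theorem Hyp.mm_eq [Finite G] (h : Hyp t K s) : mm G = Nat.card {x : G // IsConj t x} :=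
  Nat.card_congr (Equiv.subtypeEquivRight fun x => ⟨fun hx => h.conj t x h.invol_t hx, fun hx => by
    obtain ⟨c, rfl⟩ := isConj_iff.mp hx
    exact h.invol_t.conj c⟩)

theorem Hyp.mm_index [Finite G] (h : Hyp t K s) : mm G = (cen t).index := by
  have := Fintype.ofFinite G
  have h1 : Nat.card {x : G // IsConj t x} * Nat.card (cen t) = Nat.card G :=
    CfsgLib.Char.card_isConj_mul_card_centralizer t
  rw [← (cen t).index_mul_card, ← h.mm_eq] at h1
  exact Nat.eq_of_mul_eq_mul_right Nat.card_pos h1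

theorem Hyp.card_eq [Finite G] (h : Hyp t K s) : Nat.card G = 4 * nn K * mm G := by
  rw [← (cen t).index_mul_card, h.card_cen, h.mm_index, mul_comm]

/-- There is an odd number of involutions. -/
theorem Hyp.odd_mm [Finite G] (h : Hyp t K s) : Odd (mm G) := by
  classical
  by_contra hev
  rw [Nat.not_odd_iff_even] at hev
  -- the group `⟨t⟩` acting on the involutions has exactly the involutions of `C(t)` as fixed points
  let _ := Fintype.ofFinite G
  let f : {u : G // IsInv u} → {u : G // IsInv u} := fun u => ⟨t * u * t⁻¹, u.2.conj t⟩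
  have hff : Function.Involutive f := fun u => Subtype.ext (by
    show t * (t * (u : G) * t⁻¹) * t⁻¹ = u
    calc _ = (t * t) * (u : G) * (t * t)⁻¹ := by group
      _ = _ := by rw [h.invol_t.2]; group)
  have hmod := Nat.card_eq_fintype_card (α := {u : G // IsInv u})
  have hfix : Nat.card {u : {u : G // IsInv u} // f u = u} = 2 * nn K + 1 := by
    have e : {u : {u : G // IsInv u} // f u = u} ≃ Option K :=
      { toFun := fun u => if hu : (u.1 : G) = t then none else some ⟨(u.1 : G) * s, by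
          have hc : (u.1 : G) ∈ cen t := by
            rw [mem_cen]
            have e := congrArg Subtype.val u.2
            change t * (u.1 : G) * t⁻¹ = u.1 at e
            exact (mul_inv_eq_iff_eq_mul.mp e).symm
          exact (h.cases hc).resolve_left fun hK => hu (h.invol_cases u.1.2 hK)⟩
        invFun := fun o => match o with
          | none => ⟨⟨t, h.invol_t⟩, Subtype.ext (mul_inv_cancel_right t t)⟩
          | some k => ⟨⟨(k : G) * s, (h.outside ((h.outsideEquiv k).2.1) (h.outsideEquiv k).2.2).1⟩,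
              Subtype.ext (by
                show t * ((k : G) * s) * t⁻¹ = (k : G) * s
                rw [mul_inv_eq_iff_eq_mul]
                exact (mem_cen.mp (h.outsideEquiv k).2.1).symm)⟩
        left_inv := fun u => by
          by_cases hu : (u.1 : G) = t
          · simp only [hu, dite_true]; exact Subtype.ext (Subtype.ext hu.symm)
          · simp only [hu, dite_false]
            exact Subtype.ext (Subtype.ext (by simp [mul_assoc, h.invol_s.2]))
        right_inv := fun o => by
          rcases o with _ | k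
          · simp
          · have hne : (k : G) * s ≠ t := fun e => (h.outsideEquiv k).2.2
              (show (k : G) * s ∈ K from e ▸ h.t_mem)
            simp only [hne, dite_false]
            exact congrArg some (Subtype.ext (by simp [mul_assoc, h.invol_s.2])) }
    rw [Nat.card_congr e]
    simp [two_mul_nn h]
  have hpar : Nat.card {u : {u : G // IsInv u} // f u = u} ≡ Nat.card {u : G // IsInv u} [MOD 2] := by
    have := Equiv.Perm.card_compl_support_modEq (p := 2) (n := 1)
      (σ := hff.toPerm) (Equiv.ext fun u => by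
        rw [pow_one, pow_two, Equiv.Perm.mul_apply, Equiv.Perm.one_apply, Function.Involutive.coe_toPerm]
        exact hff u)
    rw [Nat.card_eq_fintype_card, Nat.card_eq_fintype_card]
    convert this using 2
    rw [Fintype.card_subtype]
    congr 1
    ext u
    simp [Function.Involutive.coe_toPerm]
  rw [hfix] at hpar
  obtain ⟨a, ha⟩ := hev
  unfold mm at ha
  rw [ha] at hpar
  have := hpar
  unfold Nat.ModEq at this
  omega

/-- The involutions inverting a nonidentity element of `K`, other than the element itself, are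
those of `C(t) ∖ K`. -/
theorem Hyp.inverting_iff (h : Hyp t K s) {x u : G} (hx : x ∈ K) (hx1 : x ≠ 1) :
    (IsInv u ∧ IsInv (u * x)) ↔ (u ∈ cen t ∧ u ∉ K) := by
  constructor
  · rintro ⟨hu, hux⟩
    have e : u * x * u⁻¹ = x⁻¹ := by
      rw [hu.inv_eq, eq_inv_iff_mul_eq_one]
      simpa [mul_assoc] using hux.2
    have hc := h.mem_cen_of_conj_mem hx hx1 (e ▸ K.inv_mem hx)
    refine ⟨hc, fun huK => ?_⟩
    rw [h.invol_cases hu huK] at hux e
    rw [h.comm t h.t_mem x hx, mul_inv_cancel_right] at e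
    exact hux.1 (by rw [(h.eq_of_sq hx (eq_inv_iff_mul_eq_one.mp e)).resolve_left hx1, h.invol_t.2])
  · rintro ⟨hu, huK⟩
    refine ⟨(h.outside hu huK).1, (h.outside ((cen t).mul_mem hu (h.le_cen hx)) fun e => huK ?_).1⟩
    simpa using K.mul_mem e (K.inv_mem hx)

theorem Hyp.card_inverting [Finite G] (h : Hyp t K s) {x : G} (hx : x ∈ K) (hx1 : x ≠ 1) :
    Nat.card {u : G // IsInv u ∧ IsInv (u * x)} = 2 * nn K := by
  rw [two_mul_nn h, Nat.card_congr h.outsideEquiv]
  exact Nat.card_congr (Equiv.subtypeEquivRight fun u => h.inverting_iff hx hx1)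

/-- An element centralizing an involution is an involution or lies in a conjugate of `K`. -/
theorem Hyp.of_commute_invol (h : Hyp t K s) {x v : G} (hv : IsInv v) (hc : x * v = v * x) :
    IsInv x ∨ ∃ g : G, g * x * g⁻¹ ∈ K := by
  obtain ⟨g, hg⟩ := isConj_iff.mp (h.conj v t hv h.invol_t)
  have hxc : g * x * g⁻¹ ∈ cen t := by
    rw [mem_cen, ← hg]
    calc g * x * g⁻¹ * (g * v * g⁻¹) = g * (x * v) * g⁻¹ := by group
      _ = g * (v * x) * g⁻¹ := by rw [hc]
      _ = _ := by group
  by_cases hK : g * x * g⁻¹ ∈ K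
  · exact Or.inr ⟨g, hK⟩
  · left
    have := ((h.outside hxc hK).1).conj g⁻¹
    simpa [mul_assoc] using this

end CfsgLib.InvolChar.BSW
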