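import Mathlib

/-!
# The degrees in the case of a four-group centralizer
-/

namespace CfsgLib.InvolChar.BSW

theorem small_table : ∀ m ∈ List.range 24,
    ∀ a ∈ ([-23, -19, -15, -11, -7, -3, 5, 9, 13, 17, 21] : List ℤ),
    ∀ b ∈ ([-23, -19, -15, -11, -7, -3, 5, 9, 13, 17, 21] : List ℤ),
      m % 2 = 1 → a ∣ (m : ℤ) → b ∣ (m : ℤ) → (-1 - a - b) ∣ (m : ℤ) →
      (m : ℤ) * (a * b * (-1 - a - b) + b * (-1 - a - b) + a * (-1 - a - b) + a * b) =
        8 * (a * b * (-1 - a - b)) →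
      m = 15 ∧ (a = 5 ∨ b = 5 ∨ (-1 - a - b) = 5) := by
  decide +kernel

/-- The case where one of the degrees is one. -/
theorem small_one {m b c : ℤ} (hm : Odd m) (hm0 : 0 < m) (hsum : 1 + b + c = -1)
    (heq : m * (1 * b * c + b * c + 1 * c + 1 * b) = 8 * (1 * b * c)) :
    m = 3 ∧ (b = -3 ∨ c = -3) := by
  have hc : c = -2 - b := by linarith
  subst hc
  have h1 : (4 - m) * (b + 1) ^ 2 = 4 := by
    have h2 : 2 * ((4 - m) * (b + 1) ^ 2) = 8 := by linear_combination heq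
    linarith
  obtain ⟨k, hk⟩ := hm
  have h4 : m ≤ 3 := by nlinarith
  have hm3 : m = 1 ∨ m = 3 := by omega
  rcases hm3 with rfl | rfl
  · exfalso
    have h3 : (b + 1) ^ 2 * 3 = 4 := by linarith
    have : (3 : ℤ) ∣ 4 := ⟨(b + 1) ^ 2, by linarith⟩
    norm_num at this
  · refine ⟨rfl, ?_⟩
    have h3 : (b + 1 - 2) * (b + 1 + 2) = 0 := by nlinarith
    rcases mul_eq_zero.mp h3 with h | h
    · right; omega
    · left; omega

theorem abs_le_of_dvd {m a : ℤ} (hm0 : 0 < m) (h : a ∣ m) : -m ≤ a ∧ a ≤ m :=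
  ⟨neg_le.mp (Int.le_of_dvd hm0 (Int.neg_dvd.mpr h)), Int.le_of_dvd hm0 h⟩

/-- The possible degrees. -/
theorem small_degrees {m : ℕ} {a b c : ℤ} (hm : Odd m)
    (ha : a ∣ (m : ℤ)) (hb : b ∣ (m : ℤ)) (hc : c ∣ (m : ℤ))
    (ha4 : (4 : ℤ) ∣ a - 1) (hb4 : (4 : ℤ) ∣ b - 1) (hc4 : (4 : ℤ) ∣ c - 1)
    (hsum : a + b + c = -1)
    (heq : (m : ℤ) * (a * b * c + b * c + a * c + a * b) = 8 * (a * b * c)) :
    (m = 3 ∧ (a = -3 ∨ b = -3 ∨ c = -3)) ∨ (m = 15 ∧ (a = 5 ∨ b = 5 ∨ c = 5)) := by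
  have hm0 : 0 < (m : ℤ) := by exact_mod_cast hm.pos
  have hmi : Odd (m : ℤ) := by exact_mod_cast hm
  by_cases a1 : a = 1
  · subst a1
    obtain ⟨e, h⟩ := small_one hmi hm0 hsum heq
    exact Or.inl ⟨by exact_mod_cast e, Or.inr h⟩
  by_cases b1 : b = 1
  · subst b1
    obtain ⟨e, h⟩ := small_one (b := a) (c := c) hmi hm0 (by linarith) (by linear_combination heq)
    exact Or.inl ⟨by exact_mod_cast e, h.elim Or.inl fun h => Or.inr (Or.inr h)⟩
  by_cases c1 : c = 1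
  · subst c1
    obtain ⟨e, h⟩ := small_one (b := a) (c := b) hmi hm0 (by linarith) (by linear_combination heq)
    exact Or.inl ⟨by exact_mod_cast e, h.elim Or.inl fun h => Or.inr (Or.inl h)⟩
  -- no degree is one: the multiplicity is below `24`
  have hm24 : m < 24 := by
    have hrec : (m : ℚ) * (1 + 1 / (a : ℚ) + 1 / (b : ℚ) + 1 / (c : ℚ)) = 8 := by
      have a0 : (a : ℚ) ≠ 0 := by exact_mod_cast (show a ≠ 0 by omega)
      have b0 : (b : ℚ) ≠ 0 := by exact_mod_cast (show b ≠ 0 by omega)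
      have c0 : (c : ℚ) ≠ 0 := by exact_mod_cast (show c ≠ 0 by omega)
      have heq' : (m : ℚ) * (a * b * c + b * c + a * c + a * b) = 8 * (a * b * c) := by
        exact_mod_cast heq
      field_simp
      linear_combination heq'
    have bd : ∀ x : ℤ, x ≠ 1 → (4 : ℤ) ∣ x - 1 → -(1 / 3 : ℚ) ≤ 1 / (x : ℚ) ∧
        (0 ≤ x → 0 < 1 / (x : ℚ)) := by
      intro x hx1 hx4
      have hcase : x ≤ -3 ∨ 5 ≤ x := by omega
      rcases hcase with hx | hx
      · have hx' : (x : ℚ) ≤ -3 := by exact_mod_cast hx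
        refine ⟨?_, fun h => absurd h (by omega)⟩
        rw [le_div_iff_of_neg (by linarith)]
        linarith
      · have hx' : (5 : ℚ) ≤ x := by exact_mod_cast hx
        have : (0 : ℚ) < 1 / (x : ℚ) := by positivity
        exact ⟨by linarith, fun _ => this⟩
    obtain ⟨la, pa⟩ := bd a a1 ha4
    obtain ⟨lb, pb⟩ := bd b b1 hb4
    obtain ⟨lc, pc⟩ := bd c c1 hc4
    have hpos : 0 ≤ a ∨ 0 ≤ b ∨ 0 ≤ c := by omega
    have hS : 1 / 3 < 1 + 1 / (a : ℚ) + 1 / (b : ℚ) + 1 / (c : ℚ) := by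
      rcases hpos with h | h | h
      · linarith [pa h]
      · linarith [pb h]
      · linarith [pc h]
    have : (m : ℚ) < 24 := by
      have hmq : (0 : ℚ) < m := by exact_mod_cast hm.pos
      nlinarith
    exact_mod_cast this
  have mem : ∀ x : ℤ, x ≠ 1 → (4 : ℤ) ∣ x - 1 → x ∣ (m : ℤ) →
      x ∈ ([-23, -19, -15, -11, -7, -3, 5, 9, 13, 17, 21] : List ℤ) := by
    intro x hx1 hx4 hxd
    obtain ⟨l1, l2⟩ := abs_le_of_dvd hm0 hxd
    obtain ⟨k, hk⟩ := hx4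
    have hk1 : -6 ≤ k ∧ k ≤ 5 ∧ k ≠ 0 := by omega
    have : x = 4 * k + 1 := by omega
    subst this
    obtain ⟨h1, h2, h3⟩ := hk1
    interval_cases k <;> simp_all
  have hcc : c = -1 - a - b := by linarith
  subst hcc
  exact Or.inr (small_table m (List.mem_range.mpr hm24) a (mem a a1 ha4 ha) b (mem b b1 hb4 hb)
    (Nat.odd_iff.mp hm) ha hb hc heq)

end CfsgLib.InvolChar.BSW
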