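import Cfsg.Agent.Lib.InvolChar.BSW.Chars
import Cfsg.Agent.Lib.InvolChar.BSW.Small

/-!
# Brauer-Suzuki-Wall: the exceptional characters and their degrees
-/

namespace CfsgLib.InvolChar.BSW

open scoped ComplexConjugate
open CfsgLib.Char

variable {G : Type*} [Group G] [Fintype G] {t : G} {K : Subgroup G} {s : G}

variable (K) in
/-- The function induced from `1 - a`, less the principal character. -/
noncomputable def BB (a : Lam K) : G → ℂ := AA K a - fun _ => 1

theorem isGen_AA (a : Lam K) : Cfsg.IsGeneralizedCharacter G (AA K a) := by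
  have h : Cfsg.IsGeneralizedCharacter K (fun x => 1 - lam a x) :=
    isGen_sub isGen_one (isGen_of_irr (isIrrCharacter_units_hom a))
  exact isGen_indFun K h

theorem isGen_BB (a : Lam K) : Cfsg.IsGeneralizedCharacter G (BB K a) :=
  isGen_sub (isGen_AA a) isGen_one

theorem BB_one (a : Lam K) : BB K a 1 = -1 := by simp [BB, AA_one]

theorem inner_AA_one {a : Lam K} (ha : a ≠ 1) :
    Cfsg.classInner (AA K a) (fun _ => 1) = 1 := by
  have := dd_const (G := G) a ha
  rw [dd] at this
  rw [← classInner_conj_symm, this, map_one]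

theorem inner_BB_one {a : Lam K} (ha : a ≠ 1) :
    Cfsg.classInner (BB K a) (fun _ => 1) = 0 := by
  rw [BB, classInner_sub_left, inner_AA_one ha, classInner_irr_self isIrrCharacter_one, sub_self]

theorem gram_BB (h : Hyp t K s) [DecidableEq (Lam K)] {a b : Lam K} (ha : a ≠ 1) (hb : b ≠ 1) :
    Cfsg.classInner (BB K a) (BB K b) =
      1 + (if a = b then 1 else 0) + (if a⁻¹ = b then 1 else 0) := by
  have h1 := inner_AA_one (G := G) ha
  have h2 : Cfsg.classInner (fun _ : G => (1 : ℂ)) (AA K b) = 1 := dd_const b hb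
  rw [BB, BB, classInner_sub_left, classInner_sub_right, classInner_sub_right, gram h ha hb, h1, h2,
    classInner_irr_self isIrrCharacter_one]
  ring

theorem inner_signed_one {a : Lam K} (ha : a ≠ 1) {X : G → ℂ} (hX : IsSigned X)
    (h : Cfsg.classInner (BB K a) X ≠ 0) : Cfsg.classInner X (fun _ => 1) = 0 := by
  by_contra hne
  rcases hX.eq_or_neg isSigned_one hne with e | e <;> refine h ?_ <;> rw [e]
  · exact inner_BB_one ha
  · rw [classInner_neg_right, inner_BB_one ha, neg_zero]

theorem dd_of_inner {X : G → ℂ} (hX1 : Cfsg.classInner X (fun _ => 1) = 0) (a : Lam K) :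
    dd X a = conj (Cfsg.classInner (BB K a) X) := by
  rw [classInner_conj_symm, BB, classInner_sub_right, hX1, sub_zero]
  rfl

theorem inner_ff_BB (h : Hyp t K s) {a : Lam K} (ha : a ≠ 1) :
    Cfsg.classInner (ff G) (BB K a) = 2 * nn K - (mm G : ℂ) / (4 * nn K) := by
  rw [BB, classInner_sub_right, inner_ff_AA h ha, inner_ff h isSigned_one]
  simp

theorem mm_ne (h : Hyp t K s) : (mm G : ℂ) ≠ 0 := by
  exact_mod_cast h.odd_mm.pos.ne'

theorem four_nn_ne (h : Hyp t K s) : (4 * (nn K : ℂ)) ≠ 0 :=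
  mul_ne_zero (by norm_num) (by exact_mod_cast (nn_pos h).ne')

/-- The identity from the products of two involutions. -/
theorem equation (h : Hyp t K s) {a : Lam K} (ha : a ≠ 1) {X Y : G → ℂ} (hX : IsSigned X)
    (hY : IsSigned Y) (e : BB K a = X + Y) :
    (mm G : ℂ) * (1 + X t * X t / X 1 + Y t * Y t / Y 1) = 8 * (nn K : ℂ) ^ 2 := by
  have h1 := inner_ff_BB h ha
  rw [e, classInner_add_right, inner_ff h hX, inner_ff h hY] at h1
  have hc : (mm G : ℂ) / (4 * nn K) * (4 * nn K) = mm G := div_mul_cancel₀ _ (four_nn_ne h)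
  linear_combination (4 * nn K : ℂ) * h1 - (1 + X t * X t / X 1 + Y t * Y t / Y 1) * hc

theorem equation_three (h : Hyp t K s) {a : Lam K} (ha : a ≠ 1) {X Y Z : G → ℂ} (hX : IsSigned X)
    (hY : IsSigned Y) (hZ : IsSigned Z) (e : BB K a = X + Y + Z) :
    (mm G : ℂ) * (1 + X t * X t / X 1 + Y t * Y t / Y 1 + Z t * Z t / Z 1) = 8 * (nn K : ℂ) ^ 2 := by
  have h1 := inner_ff_BB h ha
  rw [e, classInner_add_right, classInner_add_right, inner_ff h hX, inner_ff h hY, inner_ff h hZ] at h1
  have hc : (mm G : ℂ) / (4 * nn K) * (4 * nn K) = mm G := div_mul_cancel₀ _ (four_nn_ne h)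
  linear_combination (4 * nn K : ℂ) * h1 -
    (1 + X t * X t / X 1 + Y t * Y t / Y 1 + Z t * Z t / Z 1) * hc

omit [Fintype G] in
theorem lam_t_cases (h : Hyp t K s) (a : Lam K) :
    lam a ⟨t, h.t_mem⟩ = 1 ∨ lam a ⟨t, h.t_mem⟩ = -1 := by
  have e : lam a ⟨t, h.t_mem⟩ * lam a ⟨t, h.t_mem⟩ = 1 := by
    rw [lam, ← Units.val_mul, ← map_mul,
      show (⟨t, h.t_mem⟩ : K) * ⟨t, h.t_mem⟩ = 1 from Subtype.ext h.invol_t.2, map_one, Units.val_one]
  exact mul_self_eq_one_iff.mp e

theorem lam_inv_t (h : Hyp t K s) (a : Lam K) :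
    lam a⁻¹ ⟨t, h.t_mem⟩ = lam a ⟨t, h.t_mem⟩ := by
  rcases lam_t_cases h a with e | e <;> simp only [lam, MonoidHom.inv_apply, Units.val_inv_eq_inv_val] at e ⊢ <;>
    rw [e] <;> norm_num

omit [Fintype G] in
theorem t_ne (h : Hyp t K s) : (⟨t, h.t_mem⟩ : K) ≠ 1 :=
  fun e => h.t_ne_one (congrArg Subtype.val e)

theorem value_t (h : Hyp t K s) [Fintype (Lam K)] {X : G → ℂ} (hX : IsSigned X) :
    X t = -∑ a : Lam K, dd X a * lam a ⟨t, h.t_mem⟩ :=
  value h (isClassFunction_of_isGen hX.1) (t_ne h)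

theorem card_lam_eq (h : Hyp t K s) : Nat.card (Lam K) = 2 * nn K := by
  rw [card_lam h, two_mul_nn h]

omit [Fintype G] in
theorem lam_inv_inv (a : Lam K) : a⁻¹⁻¹ = a :=
  MonoidHom.ext fun x => inv_inv (a x)

omit [Fintype G] in
theorem lam_inv_inj {a b : Lam K} (e : a⁻¹ = b⁻¹) : a = b := by
  rw [← lam_inv_inv a, e, lam_inv_inv]

omit [Fintype G] in
theorem lam_inv_self {a : Lam K} (e : a * a = 1) : a⁻¹ = a :=
  MonoidHom.ext fun x => inv_eq_of_mul_eq_one_right (DFunLike.congr_fun e x)

/-- A regular linear character. -/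
def Reg (a : Lam K) : Prop := a * a ≠ 1

omit [Fintype G] in
theorem Reg.ne_one {a : Lam K} (ha : Reg a) : a ≠ 1 := fun e =>
  ha (MonoidHom.ext fun x => by subst e; simp)

omit [Fintype G] in
theorem Reg.inv {a : Lam K} (ha : Reg a) : Reg a⁻¹ := fun e => ha (MonoidHom.ext fun x => by
  have h1 : (a x)⁻¹ * (a x)⁻¹ = 1 := DFunLike.congr_fun e x
  show a x * a x = 1
  rw [← inv_inv (a x * a x), mul_inv_rev, h1, inv_one])

omit [Fintype G] in
theorem Reg.inv_ne {a : Lam K} (ha : Reg a) : a⁻¹ ≠ a := fun e => ha (MonoidHom.ext fun x => by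
  have h1 : (a x)⁻¹ = a x := DFunLike.congr_fun e x
  show a x * a x = 1
  nth_rewrite 1 [← h1]
  exact inv_mul_cancel _)

theorem exists_reg (h : Hyp t K s) (hn : 2 ≤ nn K) {o : Lam K}
    (huniq : ∀ a : Lam K, a * a = 1 → a = 1 ∨ a = o) : ∃ a : Lam K, Reg a := by
  classical
  have := finite_lam h
  have := Fintype.ofFinite (Lam K)
  by_contra hne
  simp only [Reg, not_exists, not_not] at hne
  have hsub : (Finset.univ : Finset (Lam K)) ⊆ {1, o} := fun a _ => by
    rcases huniq a (hne a) with e | e <;> simp [e]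
  have h1 := (Finset.card_le_card hsub).trans Finset.card_le_two
  rw [Finset.card_univ, ← Nat.card_eq_fintype_card, card_lam_eq h] at h1
  omega

theorem norm_BB_reg (h : Hyp t K s) {a : Lam K} (ha : Reg a) :
    Cfsg.classInner (BB K a) (BB K a) = ((2 : ℤ) : ℂ) := by
  classical
  rw [gram_BB h ha.ne_one ha.ne_one, if_pos rfl, if_neg ha.inv_ne]
  norm_num

theorem norm_BB_zero (h : Hyp t K s) {o : Lam K} (ho : o ≠ 1) (ho2 : o * o = 1) :
    Cfsg.classInner (BB K o) (BB K o) = ((3 : ℤ) : ℂ) := by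
  classical
  rw [gram_BB h ho ho, if_pos rfl, if_pos (lam_inv_self ho2)]
  norm_num

theorem inner_BB_BB (h : Hyp t K s) {a b : Lam K} (ha : a ≠ 1) (hb : b ≠ 1) (h1 : a ≠ b)
    (h2 : a⁻¹ ≠ b) : Cfsg.classInner (BB K a) (BB K b) = 1 := by
  classical
  rw [gram_BB h ha hb, if_neg h1, if_neg h2, add_zero, add_zero]

theorem BB_inv (h : Hyp t K s) (a : Lam K) : BB K a⁻¹ = BB K a := by rw [BB, BB, AA_inv h]

theorem degree_Y {Θ : G → ℂ} {F : ℂ} (hF : Θ 1 = F) (a : Lam K) : (BB K a - Θ) 1 = -1 - F := by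
  rw [Pi.sub_apply, BB_one, hF]

theorem no_third {F : ℤ} (h : 3 * (-1 - F) = -1) : False := by omega

/-- A character common to all `BB`. -/
theorem exists_theta (h : Hyp t K s) (hn : 2 ≤ nn K) {o : Lam K} (ho : o ≠ 1) (ho2 : o * o = 1)
    (huniq : ∀ a : Lam K, a * a = 1 → a = 1 ∨ a = o) :
    ∃ Θ : G → ℂ, IsSigned Θ ∧ ∀ a : Lam K, a ≠ 1 → Cfsg.classInner (BB K a) Θ = 1 := by
  classical
  have := finite_lam h
  have := Fintype.ofFinite (Lam K)
  obtain ⟨l₁, hl₁⟩ := exists_reg h hn huniq
  have hoinv : o⁻¹ = o := lam_inv_self ho2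
  have hreg : ∀ a : Lam K, a ≠ 1 → a = o ∨ Reg a := fun a ha => by
    by_cases h2 : a * a = 1
    · exact Or.inl ((huniq a h2).resolve_left ha)
    · exact Or.inr h2
  have honereg : ∀ a : Lam K, Reg a → Cfsg.classInner (BB K o) (BB K a) = 1 := fun a ha =>
    inner_BB_BB h ho ha.ne_one (fun e => ha (e ▸ ho2)) (fun e => ha (by rw [← e, hoinv]; exact ho2))
  obtain ⟨X, hX, hBX, hgen, hn1, hXY⟩ := peel (isGen_BB l₁) two_pos (by norm_num) (norm_BB_reg h hl₁)
  set Y := BB K l₁ - X with hYdef
  have hY : IsSigned Y := ⟨hgen, by rw [hn1]; norm_num⟩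
  have hsum : BB K l₁ = X + Y := by rw [hYdef, add_sub_cancel]
  have split : ∀ (b : Lam K) (k : ℤ), k ≤ 3 → Cfsg.classInner (BB K b) (BB K b) = k →
      Cfsg.classInner (BB K b) (BB K l₁) = 1 →
      (Cfsg.classInner (BB K b) X = 1 ∧ Cfsg.classInner (BB K b) Y = 0) ∨
        (Cfsg.classInner (BB K b) X = 0 ∧ Cfsg.classInner (BB K b) Y = 1) := by
    intro b k hk hnorm hin
    obtain ⟨u, hu⟩ := classInner_gen_int (isGen_BB (G := G) b) hX.1
    obtain ⟨v, hv⟩ := classInner_gen_int (isGen_BB (G := G) b) hY.1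
    rw [hsum, classInner_add_right, hu, hv] at hin
    have huv : u + v = 1 := by exact_mod_cast hin
    have hle := (bessel_two hX.2 hY.2 hXY hu hv hnorm).1
    have h1 : 0 ≤ u ∧ u ≤ 1 := by constructor <;> nlinarith
    rcases (show u = 1 ∨ u = 0 by omega) with e | e <;>
      [left; right] <;> rw [hu, hv] <;> refine ⟨by simp [e], ?_⟩ <;>
      rw [show v = 1 - u by omega, e] <;> norm_num
  by_cases hex : ∃ l₂ : Lam K, Reg l₂ ∧ l₂ ≠ l₁ ∧ l₂ ≠ l₁⁻¹
  · obtain ⟨l₂, hl₂, h21, h21'⟩ := hex
    have h12 : Cfsg.classInner (BB K l₂) (BB K l₁) = 1 :=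
      inner_BB_BB h hl₂.ne_one hl₁.ne_one h21 fun e => h21' (by rw [← e, lam_inv_inv])
    have key : ∀ Θ Y₁ : G → ℂ, IsSigned Θ → IsSigned Y₁ → Cfsg.classInner Θ Y₁ = 0 →
        BB K l₁ = Θ + Y₁ → Cfsg.classInner (BB K l₂) Θ = 1 → Cfsg.classInner (BB K l₂) Y₁ = 0 →
        ∀ a : Lam K, a ≠ 1 → Cfsg.classInner (BB K a) Θ = 1 := by
      intro Θ Y₁ hΘ hY₁ hΘY e1 h2Θ h2Y
      have hΘ2 : Cfsg.classInner Θ (BB K l₂) = 1 := by rw [← classInner_conj_symm, h2Θ, map_one]
      set Y₂ := BB K l₂ - Θ with hY2def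
      have e2 : BB K l₂ = Θ + Y₂ := by rw [hY2def, add_sub_cancel]
      have hY₂ : IsSigned Y₂ := by
        refine ⟨isGen_sub (isGen_BB _) hΘ.1, ?_⟩
        simp only [hY2def, classInner_sub_left, classInner_sub_right, norm_BB_reg h hl₂, h2Θ, hΘ2, hΘ.2]
        norm_num
      have hΘY2 : Cfsg.classInner Θ Y₂ = 0 := by
        rw [hY2def, classInner_sub_right, hΘ2, hΘ.2, sub_self]
      have hY₁Θ : Cfsg.classInner Y₁ Θ = 0 := by rw [← classInner_conj_symm, hΘY, map_zero]
      have hY12 : Cfsg.classInner Y₁ Y₂ = 0 := by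
        have : Cfsg.classInner Y₁ (BB K l₂) = 0 := by rw [← classInner_conj_symm, h2Y, map_zero]
        rw [hY2def, classInner_sub_right, this, hY₁Θ, sub_zero]
      obtain ⟨F, -, hF, -⟩ := hΘ.degree
      have hy₁ : Y₁ 1 = -1 - F := by
        rw [show Y₁ = BB K l₁ - Θ by rw [e1, add_sub_cancel_left]]; exact degree_Y hF _
      have hy₂ : Y₂ 1 = -1 - F := degree_Y hF _
      have l1Θ : Cfsg.classInner (BB K l₁) Θ = 1 := by
        rw [e1, classInner_add_left, hΘ.2, hY₁Θ, add_zero]
      intro a ha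
      by_cases ha1 : a = l₁
      · rw [ha1, l1Θ]
      by_cases ha1' : a = l₁⁻¹
      · rw [ha1', BB_inv h, l1Θ]
      by_cases ha2 : a = l₂
      · rw [ha2, h2Θ]
      by_cases ha2' : a = l₂⁻¹
      · rw [ha2', BB_inv h, h2Θ]
      have g1 : Cfsg.classInner (BB K a) (BB K l₁) = 1 :=
        inner_BB_BB h ha hl₁.ne_one ha1 fun e => ha1' (by rw [← e, lam_inv_inv])
      have g2 : Cfsg.classInner (BB K a) (BB K l₂) = 1 :=
        inner_BB_BB h ha hl₂.ne_one ha2 fun e => ha2' (by rw [← e, lam_inv_inv])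
      obtain ⟨u, hu⟩ := classInner_gen_int (isGen_BB (G := G) a) hΘ.1
      obtain ⟨v, hv⟩ := classInner_gen_int (isGen_BB (G := G) a) hY₁.1
      obtain ⟨w, hw⟩ := classInner_gen_int (isGen_BB (G := G) a) hY₂.1
      rw [e1, classInner_add_right, hu, hv] at g1
      rw [e2, classInner_add_right, hu, hw] at g2
      have huv : u + v = 1 := by exact_mod_cast g1
      have huw : u + w = 1 := by exact_mod_cast g2
      rw [hu]
      suffices u = 1 by simp [this]
      rcases hreg a ha with rfl | hareg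
      · -- the real character
        have hle := bessel_three hΘ.2 hY₁.2 hY₂.2 hΘY hΘY2 hY12 hu hv hw (norm_BB_zero h ho ho2)
        have hu01 : 0 ≤ u ∧ u ≤ 1 := by constructor <;> nlinarith [hle.1]
        by_contra hu1
        have hu0 : u = 0 := by omega
        by_cases hthree : ∃ l₃ : Lam K, Reg l₃ ∧ l₃ ≠ l₁ ∧ l₃ ≠ l₁⁻¹ ∧ l₃ ≠ l₂ ∧ l₃ ≠ l₂⁻¹
        · obtain ⟨l₃, hl₃, n1, n1', n2, n2'⟩ := hthree
          have c1 : Cfsg.classInner (BB K l₃) (BB K l₁) = 1 :=
            inner_BB_BB h hl₃.ne_one hl₁.ne_one n1 fun e => n1' (by rw [← e, lam_inv_inv])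
          have c2 : Cfsg.classInner (BB K l₃) (BB K l₂) = 1 :=
            inner_BB_BB h hl₃.ne_one hl₂.ne_one n2 fun e => n2' (by rw [← e, lam_inv_inv])
          obtain ⟨p, hp⟩ := classInner_gen_int (isGen_BB (G := G) l₃) hΘ.1
          obtain ⟨q, hq⟩ := classInner_gen_int (isGen_BB (G := G) l₃) hY₁.1
          obtain ⟨r, hr⟩ := classInner_gen_int (isGen_BB (G := G) l₃) hY₂.1
          rw [e1, classInner_add_right, hp, hq] at c1
          rw [e2, classInner_add_right, hp, hr] at c2
          have hpq : p + q = 1 := by exact_mod_cast c1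
          have hpr : p + r = 1 := by exact_mod_cast c2
          have hb := bessel_three hΘ.2 hY₁.2 hY₂.2 hΘY hΘY2 hY12 hp hq hr (norm_BB_reg h hl₃)
          have hp01 : 0 ≤ p ∧ p ≤ 1 := by constructor <;> nlinarith [hb.1]
          have hp1 : p = 1 := by
            by_contra hp1
            have hp0 : p = 0 := by omega
            have hB := hb.2 (by rw [hp0, show q = 1 by omega, show r = 1 by omega]; norm_num)
            have h1 := congrFun hB 1
            rw [BB_one] at h1
            simp only [hp0, show q = 1 by omega, show r = 1 by omega, Pi.add_apply, Pi.smul_apply,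
              hy₁, hy₂, smul_eq_mul, Int.cast_zero, Int.cast_one, zero_mul, one_mul, zero_add] at h1
            have : (-1 : ℤ) = (-1 - F) + (-1 - F) := by exact_mod_cast h1
            omega
          set Y₃ := BB K l₃ - Θ with hY3def
          have h3Θ : Cfsg.classInner (BB K l₃) Θ = 1 := by rw [hp, hp1]; norm_num
          have hΘ3 : Cfsg.classInner Θ (BB K l₃) = 1 := by rw [← classInner_conj_symm, h3Θ, map_one]
          have hY₃ : IsSigned Y₃ := by
            refine ⟨isGen_sub (isGen_BB _) hΘ.1, ?_⟩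
            simp only [hY3def, classInner_sub_left, classInner_sub_right, norm_BB_reg h hl₃, h3Θ, hΘ3, hΘ.2]
            norm_num
          have h13 : Cfsg.classInner Y₁ Y₃ = 0 := by
            have : Cfsg.classInner Y₁ (BB K l₃) = 0 := by
              rw [← classInner_conj_symm, hq, show q = 0 by omega]; norm_num
            rw [hY3def, classInner_sub_right, this, hY₁Θ, sub_zero]
          have h23 : Cfsg.classInner Y₂ Y₃ = 0 := by
            have : Cfsg.classInner Y₂ (BB K l₃) = 0 := by
              rw [← classInner_conj_symm, hr, show r = 0 by omega]; norm_num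
            have h2 : Cfsg.classInner Y₂ Θ = 0 := by rw [← classInner_conj_symm, hΘY2, map_zero]
            rw [hY3def, classInner_sub_right, this, h2, sub_zero]
          obtain ⟨z, hz⟩ := classInner_gen_int (isGen_BB (G := G) a) hY₃.1
          have hz1 : z = 1 := by
            have h3 := honereg l₃ hl₃
            have e3 : BB K l₃ = Θ + Y₃ := by rw [hY3def, add_sub_cancel]
            rw [e3, classInner_add_right, hu, hz, hu0] at h3
            simpa using h3
          have hb' := bessel_three hY₁.2 hY₂.2 hY₃.2 hY12 h13 h23 hv hw hz (norm_BB_zero h ho ho2)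
          have hB := hb'.2 (by rw [show v = 1 by omega, show w = 1 by omega, hz1]; norm_num)
          have h1 := congrFun hB 1
          rw [BB_one] at h1
          simp only [show v = 1 by omega, show w = 1 by omega, hz1, Pi.add_apply, Pi.smul_apply,
            smul_eq_mul, Int.cast_one, one_mul, hy₁, hy₂, hY3def, degree_Y hF] at h1
          have : (-1 : ℤ) = (-1 - F) + (-1 - F) + (-1 - F) := by exact_mod_cast h1
          exact no_third (F := F) (by linarith)
        · -- exactly two pairs: compare the values at `t`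
          push Not at hthree
          have hall : ∀ b : Lam K, b = 1 ∨ b = a ∨ b = l₁ ∨ b = l₁⁻¹ ∨ b = l₂ ∨ b = l₂⁻¹ := by
            intro b
            by_cases hb : b = 1
            · exact Or.inl hb
            rcases hreg b hb with e | e
            · exact Or.inr (Or.inl e)
            · by_contra hc
              simp only [not_or] at hc
              exact hc.2.2.2.2.2 (hthree b e hc.2.2.1 hc.2.2.2.1 hc.2.2.2.2.1)
          set τ : K := ⟨t, h.t_mem⟩
          have vals : ∀ (l l' : Lam K) (Yl : G → ℂ), IsSigned Yl → Reg l → Reg l' →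
              l ≠ l' → l ≠ l'⁻¹ → (∀ b : Lam K, b = 1 ∨ b = a ∨ b = l ∨ b = l⁻¹ ∨ b = l' ∨ b = l'⁻¹) →
              Cfsg.classInner (BB K a) Yl = 1 → Cfsg.classInner (BB K l) Yl = 1 →
              Cfsg.classInner (BB K l') Yl = 0 →
              Yl t = -(lam a τ + 2 * lam l τ) := by
            intro l l' Yl hYl hl hl' n n' hb ea el el'
            have hY1' := inner_signed_one ha hYl (by rw [ea]; norm_num)
            have hd : ∀ b : Lam K, dd Yl b =
                (if b = a then 1 else 0) + (if b = l then 1 else 0) + (if b = l⁻¹ then 1 else 0) := by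
              intro b
              have hla : l ≠ a := fun e => hl (e ▸ ho2)
              have hla' : l⁻¹ ≠ a := fun e => hl.inv (e ▸ ho2)
              have hl'a : l' ≠ a := fun e => hl' (e ▸ ho2)
              have hl'a' : l'⁻¹ ≠ a := fun e => hl'.inv (e ▸ ho2)
              have hl'l : l'⁻¹ ≠ l := Ne.symm n'
              have hl'li : l' ≠ l⁻¹ := fun e => n' (by rw [e, lam_inv_inv])
              have hl'ili : l'⁻¹ ≠ l⁻¹ := fun e => n (lam_inv_inj e).symm
              rcases hb b with rfl | rfl | rfl | rfl | rfl | rfl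
              · rw [dd_one_arg (isClassFunction_of_isGen hYl.1), if_neg (Ne.symm ha),
                  if_neg (Ne.symm hl.ne_one), if_neg (Ne.symm hl.inv.ne_one)]
                norm_num
              · rw [dd_of_inner hY1', ea, if_pos rfl, if_neg hla.symm, if_neg hla'.symm]; norm_num
              · rw [dd_of_inner hY1', el, if_neg hla, if_pos rfl, if_neg hl.inv_ne.symm]; norm_num
              · rw [dd_of_inner hY1', BB_inv h, el, if_neg hla', if_neg hl.inv_ne, if_pos rfl]; norm_num
              · rw [dd_of_inner hY1', el', if_neg hl'a, if_neg (Ne.symm n), if_neg hl'li]; norm_num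
              · rw [dd_of_inner hY1', BB_inv h, el', if_neg hl'a', if_neg hl'l, if_neg hl'ili]; norm_num
            rw [value_t h hYl]
            simp only [hd, add_mul, ite_mul, one_mul, zero_mul, Finset.sum_add_distrib,
              Finset.sum_ite_eq', Finset.mem_univ, if_true, τ]
            rw [lam_inv_t h l]
            ring
          have hav : Cfsg.classInner (BB K a) Y₁ = 1 := by rw [hv, show v = 1 by omega]; norm_num
          have haw : Cfsg.classInner (BB K a) Y₂ = 1 := by rw [hw, show w = 1 by omega]; norm_num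
          have h1Y1 : Cfsg.classInner (BB K l₁) Y₁ = 1 := by
            rw [e1, classInner_add_left, hΘY, hY₁.2, zero_add]
          have h2Y2 : Cfsg.classInner (BB K l₂) Y₂ = 1 := by
            rw [e2, classInner_add_left, hΘY2, hY₂.2, zero_add]
          have h1Y2 : Cfsg.classInner (BB K l₁) Y₂ = 0 := by
            rw [e1, classInner_add_left, hΘY2, hY12, add_zero]
          have n12' : l₁ ≠ l₂⁻¹ := fun e => h21' (by rw [e, lam_inv_inv])
          have v1 := vals l₁ l₂ Y₁ hY₁ hl₁ hl₂ (Ne.symm h21) n12' hall hav h1Y1 h2Y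
          have v2 := vals l₂ l₁ Y₂ hY₂ hl₂ hl₁ h21 h21'
            (fun b => by rcases hall b with e | e | e | e | e | e <;> simp [e]) haw h2Y2 h1Y2
          have q1 := equation h hl₁.ne_one hΘ hY₁ e1
          have q2 := equation h hl₂.ne_one hΘ hY₂ e2
          rw [← q2] at q1
          have hq := mul_left_cancel₀ (mm_ne h) q1
          rw [hy₁, hy₂] at hq
          have hF' : (-1 - F : ℂ) ≠ 0 := by
            obtain ⟨y, hy0, hy, -⟩ := hY₁.degree
            rw [← hy₁, hy]; exact_mod_cast hy0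
          have hsq : Y₁ t * Y₁ t = Y₂ t * Y₂ t := by
            have := add_left_cancel hq
            field_simp at this
            linear_combination this
          have htot : (1 : ℂ) + lam a τ + 2 * lam l₁ τ + 2 * lam l₂ τ = 0 := by
            have hs := sum_all_lam h τ (t_ne h)
            have hone : ∀ b : Lam K, (1 : ℂ) = (if b = 1 then 1 else 0) + (if b = a then 1 else 0) +
                (if b = l₁ then 1 else 0) + (if b = l₁⁻¹ then 1 else 0) + (if b = l₂ then 1 else 0) +
                (if b = l₂⁻¹ then 1 else 0) := by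
              intro b
              have x1 : (1 : Lam K) ≠ a := Ne.symm ho
              have x2 : (1 : Lam K) ≠ l₁ := Ne.symm hl₁.ne_one
              have x3 : (1 : Lam K) ≠ l₁⁻¹ := Ne.symm hl₁.inv.ne_one
              have x4 : (1 : Lam K) ≠ l₂ := Ne.symm hl₂.ne_one
              have x5 : (1 : Lam K) ≠ l₂⁻¹ := Ne.symm hl₂.inv.ne_one
              have y2 : a ≠ l₁ := fun e => hl₁ (e ▸ ho2)
              have y3 : a ≠ l₁⁻¹ := fun e => hl₁.inv (e ▸ ho2)
              have y4 : a ≠ l₂ := fun e => hl₂ (e ▸ ho2)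
              have y5 : a ≠ l₂⁻¹ := fun e => hl₂.inv (e ▸ ho2)
              have z3 : l₁ ≠ l₁⁻¹ := hl₁.inv_ne.symm
              have z4 : l₁ ≠ l₂ := Ne.symm h21
              have z5 : l₁ ≠ l₂⁻¹ := n12'
              have w4 : l₁⁻¹ ≠ l₂ := Ne.symm h21'
              have w5 : l₁⁻¹ ≠ l₂⁻¹ := fun e => z4 (lam_inv_inj e)
              have v5 : l₂ ≠ l₂⁻¹ := hl₂.inv_ne.symm
              rcases hall b with rfl | rfl | rfl | rfl | rfl | rfl
              · simp [x1, x2, x3, x4, x5]
              · simp [x1.symm, y2, y3, y4, y5]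
              · simp [x2.symm, y2.symm, z3, z4, z5]
              · simp [x3.symm, y3.symm, z3.symm, w4, w5]
              · simp [x4.symm, y4.symm, z4.symm, w4.symm, v5]
              · simp [x5.symm, y5.symm, z5.symm, w5.symm, v5.symm]
            have hs' : ∑ b : Lam K, (1 : ℂ) * lam b τ = 0 := by simpa using hs
            rw [Finset.sum_congr rfl fun b _ => by rw [hone b]] at hs'
            simp only [add_mul, ite_mul, one_mul, zero_mul, Finset.sum_add_distrib,
              Finset.sum_ite_eq', Finset.mem_univ, if_true] at hs'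
            have : lam (1 : Lam K) τ = 1 := by simp [lam]
            rw [this, lam_inv_t h l₁, lam_inv_t h l₂] at hs'
            linear_combination hs'
          rw [v1, v2] at hsq
          rcases lam_t_cases h a with e0 | e0 <;> rcases lam_t_cases h l₁ with ea | ea <;>
            rcases lam_t_cases h l₂ with eb | eb <;> simp only [τ] at hsq htot <;>
            rw [e0, ea, eb] at htot hsq <;> norm_num at htot <;> norm_num at hsq
      · have hle := bessel_three hΘ.2 hY₁.2 hY₂.2 hΘY hΘY2 hY12 hu hv hw (norm_BB_reg h hareg)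
        have hu01 : 0 ≤ u ∧ u ≤ 1 := by constructor <;> nlinarith [hle.1]
        by_contra hu1
        have hu0 : u = 0 := by omega
        have hB := hle.2 (by rw [hu0, show v = 1 by omega, show w = 1 by omega]; norm_num)
        have h1 := congrFun hB 1
        rw [BB_one] at h1
        simp only [hu0, show v = 1 by omega, show w = 1 by omega, Pi.add_apply, Pi.smul_apply,
          hy₁, hy₂, smul_eq_mul, Int.cast_zero, Int.cast_one, zero_mul, one_mul, zero_add] at h1
        have : (-1 : ℤ) = (-1 - F) + (-1 - F) := by exact_mod_cast h1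
        omega
    rcases split l₂ 2 (by norm_num) (norm_BB_reg h hl₂) h12 with ⟨e, e'⟩ | ⟨e, e'⟩
    · exact ⟨X, hX, key X Y hX hY hXY hsum e e'⟩
    · exact ⟨Y, hY, key Y X hY hX (by rw [← classInner_conj_symm, hXY, map_zero])
        (by rw [hsum, add_comm]) e' e⟩
  · push Not at hex
    have fin : ∀ Θ : G → ℂ, Cfsg.classInner (BB K l₁) Θ = 1 → Cfsg.classInner (BB K o) Θ = 1 →
        ∀ a : Lam K, a ≠ 1 → Cfsg.classInner (BB K a) Θ = 1 := by
      intro Θ h1 ho' a ha
      rcases hreg a ha with rfl | hareg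
      · exact ho'
      · by_cases e : a = l₁
        · rw [e, h1]
        · rw [hex a hareg e, BB_inv h, h1]
    have hlY : Cfsg.classInner (BB K l₁) Y = 1 := by
      rw [hsum, classInner_add_left, hXY, hY.2, zero_add]
    rcases split o 3 le_rfl (norm_BB_zero h ho ho2) (honereg l₁ hl₁) with ⟨e, -⟩ | ⟨-, e⟩
    · exact ⟨X, hX, fin X hBX e⟩
    · exact ⟨Y, hY, fin Y hlY e⟩

end CfsgLib.InvolChar.BSW
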